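import Cfsg.Agent.Lib.Invol.RankOneInter.PartA.Local
import Cfsg.Agent.Lib.Perm.SLTwoFive

/-!
Owner: helper16. Part A of S3310: conclusion (b).

* `Pair.sylow_facts`: a Sylow 2-subgroup of the central product of two copies of `SL(2,5)`.
* `fixed_of_concB`: in conclusion (b), every automorphism of a Sylow 2-subgroup fixes `t`.
* `fixed_of_conc`: both conclusions together.
-/

set_option autoImplicit false
set_option linter.style.haveILetI false
set_option linter.unusedSectionVars false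

open scoped MatrixGroups

namespace CfsgLib.RankOneInter

open Subgroup

namespace Pair

local instance : Fact (Nat.Prime 5) := ⟨by norm_num⟩

/-- An element of order four. -/
def iM : SL(2, ZMod 5) := ⟨!![2, 0; 0, 3], by decide +kernel⟩

/-- A second element of order four, inverting `iM`. -/
def jM : SL(2, ZMod 5) := ⟨!![0, 1; 4, 0], by decide +kernel⟩

/-- The images of the elements of the quaternion group. -/
def q8SLFun : QuaternionGroup 2 → SL(2, ZMod 5)
  | .a k => iM ^ (k : ZMod 4).val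
  | .xa k => jM * iM ^ (k : ZMod 4).val

/-- The quaternion group in `SL(2,5)`. -/
def q8SL : QuaternionGroup 2 →* SL(2, ZMod 5) := MonoidHom.mk' q8SLFun (by decide +kernel)

theorem q8SL_injective : Function.Injective q8SL := by
  have h : ∀ u v : QuaternionGroup 2, q8SLFun u = q8SLFun v → u = v := by decide +kernel
  exact h

theorem q8SL_two : q8SL (.a 2) = -1 := by
  have h : q8SLFun (.a 2) = -1 := by decide +kernel
  exact h

theorem q8_facts :
    (∀ u v : QuaternionGroup 2, u * v = v * u ∨ u * v = .a 2 * (v * u)) ∧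
      (∀ z : QuaternionGroup 2, (∀ w, z * w = w * z) → z = 1 ∨ z = .a 2) ∧
      ((.a 1 : QuaternionGroup 2) * .xa 0 = .a 2 * (.xa 0 * .a 1)) ∧
      ((.a 2 : QuaternionGroup 2) ≠ 1) ∧ ((.a 2 : QuaternionGroup 2) * .a 2 = 1) := by
  decide +kernel

theorem neg_one_ne : (-1 : SL(2, ZMod 5)) ≠ 1 := by decide +kernel

theorem neg_one_sq : (-1 : SL(2, ZMod 5)) * -1 = 1 := by decide +kernel

theorem neg_one_central (x : SL(2, ZMod 5)) : x * -1 = -1 * x := by
  apply Subtype.ext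
  simp

variable (Z : Subgroup (SL(2, ZMod 5) × SL(2, ZMod 5))) [Z.Normal]

/-- The image of the two quaternion groups. -/
def qMap : QuaternionGroup 2 × QuaternionGroup 2 →* (SL(2, ZMod 5) × SL(2, ZMod 5)) ⧸ Z :=
  (QuotientGroup.mk' Z).comp (q8SL.prodMap q8SL)

/-- The central involution. -/
def cInv : (SL(2, ZMod 5) × SL(2, ZMod 5)) ⧸ Z := QuotientGroup.mk' Z (-1, 1)

theorem cInv_central (x : (SL(2, ZMod 5) × SL(2, ZMod 5)) ⧸ Z) : x * cInv Z = cInv Z * x := by
  induction x using QuotientGroup.induction_on with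
  | H g =>
    show QuotientGroup.mk' Z g * cInv Z = cInv Z * QuotientGroup.mk' Z g
    rw [cInv, ← map_mul, ← map_mul]
    congr 1
    exact Prod.ext (neg_one_central _) (by simp)

variable {Z} (hZ : Z = zpowers ((-1 : SL(2, ZMod 5)), (-1 : SL(2, ZMod 5))))
include hZ

theorem mem_cases {z : SL(2, ZMod 5) × SL(2, ZMod 5)} (hz : z ∈ Z) : z = 1 ∨ z = (-1, -1) := by
  rw [hZ] at hz
  obtain ⟨k, rfl⟩ := mem_zpowers_iff.1 hz
  have h2 : ((-1, -1) : SL(2, ZMod 5) × SL(2, ZMod 5)) ^ (2 : ℤ) = 1 := by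
    rw [zpow_two, Prod.mk_mul_mk, neg_one_sq]; rfl
  rcases Int.even_or_odd k with ⟨j, rfl⟩ | ⟨j, rfl⟩
  · left; rw [← two_mul, zpow_mul, h2, one_zpow]
  · right; rw [zpow_add, zpow_mul, h2, one_zpow, one_mul, zpow_one]

theorem pair_mem : ((-1, -1) : SL(2, ZMod 5) × SL(2, ZMod 5)) ∈ Z := by
  rw [hZ]; exact mem_zpowers _

theorem qMap_eq_one {d : QuaternionGroup 2 × QuaternionGroup 2} :
    qMap Z d = 1 ↔ d = 1 ∨ d = (.a 2, .a 2) := by
  have e : qMap Z d = 1 ↔ (q8SL d.1, q8SL d.2) ∈ Z := QuotientGroup.eq_one_iff _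
  rw [e]
  constructor
  · intro h
    rcases mem_cases hZ h with h | h
    · left
      obtain ⟨h1, h2⟩ := Prod.ext_iff.1 h
      exact Prod.ext (q8SL_injective (h1.trans (map_one _).symm)) (q8SL_injective (h2.trans (map_one _).symm))
    · right
      obtain ⟨h1, h2⟩ := Prod.ext_iff.1 h
      exact Prod.ext (q8SL_injective (h1.trans q8SL_two.symm)) (q8SL_injective (h2.trans q8SL_two.symm))
  · rintro (rfl | rfl)
    · simp only [Prod.fst_one, Prod.snd_one, map_one]; exact one_mem Z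
    · simp only [q8SL_two]; exact pair_mem hZ

theorem qMap_left : qMap Z (.a 2, 1) = cInv Z := by
  show QuotientGroup.mk' Z (q8SL (.a 2), q8SL 1) = _
  rw [q8SL_two, map_one]; rfl

theorem qMap_right : qMap Z (1, .a 2) = cInv Z := by
  rw [← qMap_left hZ, ← inv_mul_eq_one, ← map_inv, ← map_mul, qMap_eq_one hZ]
  right
  decide +kernel

theorem cInv_ne : cInv Z ≠ 1 := by
  rw [← qMap_left hZ, Ne, qMap_eq_one hZ]
  decide +kernel

theorem cInv_sq : cInv Z * cInv Z = 1 := by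
  rw [← qMap_left hZ, ← map_mul, Prod.mk_mul_mk, q8_facts.2.2.2.2, mul_one]
  exact map_one _

theorem range_sylow : ∃ M : Sylow 2 ((SL(2, ZMod 5) × SL(2, ZMod 5)) ⧸ Z),
    (M : Subgroup ((SL(2, ZMod 5) × SL(2, ZMod 5)) ⧸ Z)) = (qMap Z).range := by
  haveI := Fact.mk Nat.prime_two
  have hker : (qMap Z).ker = zpowers ((.a 2, .a 2) : QuaternionGroup 2 × QuaternionGroup 2) := by
    refine le_antisymm (fun d hd => ?_) (zpowers_le.2 ((qMap_eq_one hZ).2 (Or.inr rfl)))
    rcases (qMap_eq_one hZ).1 hd with rfl | rfl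
    · exact one_mem _
    · exact mem_zpowers _
  have h32 : Nat.card (qMap Z).range = 32 := by
    have h := (qMap Z).ker.card_mul_index
    rw [index_ker, hker, Nat.card_zpowers, Nat.card_prod, Nat.card_eq_fintype_card (α := QuaternionGroup 2),
      QuaternionGroup.card, orderOf_eq_prime (p := 2) (by decide +kernel) (by decide +kernel)] at h
    omega
  have hK : Z.index = 7200 := by
    have h := Z.card_mul_index
    rw [Nat.card_prod, CfsgLib.Perm.SLTwoFive.card_eq] at h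
    have h2 : Nat.card Z = 2 := by
      rw [hZ, Nat.card_zpowers]
      refine orderOf_eq_prime ?_ fun he => neg_one_ne (Prod.ext_iff.1 he).1
      rw [pow_two, Prod.mk_mul_mk, neg_one_sq]; rfl
    rw [h2] at h
    omega
  have hidx := (qMap Z).range.card_mul_index
  rw [h32, ← index_eq_card, hK] at hidx
  have hi : ¬ 2 ∣ (qMap Z).range.index := by omega
  exact ⟨(IsPGroup.of_card (n := 5) h32).toSylow hi, rfl⟩

/-- What is used of a Sylow 2-subgroup of the central product. -/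
theorem sylow_facts (M : Sylow 2 ((SL(2, ZMod 5) × SL(2, ZMod 5)) ⧸ Z)) :
    (∀ u ∈ M, ∀ v ∈ M, u * v = v * u ∨ u * v = cInv Z * (v * u)) ∧
      (∃ u ∈ M, ∃ v ∈ M, u * v = cInv Z * (v * u)) ∧
      ∀ z ∈ M, (∀ w ∈ M, z * w = w * z) → z = 1 ∨ z = cInv Z := by
  haveI := Fact.mk Nat.prime_two
  obtain ⟨M₀, hM₀⟩ := range_sylow hZ
  obtain ⟨g, hg⟩ := MulAction.exists_smul_eq ((SL(2, ZMod 5) × SL(2, ZMod 5)) ⧸ Z) M₀ M
  let ψ : QuaternionGroup 2 × QuaternionGroup 2 →* (SL(2, ZMod 5) × SL(2, ZMod 5)) ⧸ Z :=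
    (MulAut.conj g).toMonoidHom.comp (qMap Z)
  have hmem : ∀ x, x ∈ M ↔ ∃ d, ψ d = x := fun x => by
    have : (M : Subgroup ((SL(2, ZMod 5) × SL(2, ZMod 5)) ⧸ Z)) = ψ.range := by
      rw [← hg, Sylow.coe_subgroup_smul, hM₀, MonoidHom.range_comp]
      rfl
    exact (SetLike.ext_iff.1 this x).trans Iff.rfl
  have hψc : (MulAut.conj g).toMonoidHom (cInv Z) = cInv Z := by
    show g * cInv Z * g⁻¹ = cInv Z
    rw [cInv_central, mul_inv_cancel_right]
  have hψ1 : ∀ d, ψ d = 1 ↔ d = 1 ∨ d = (.a 2, .a 2) := fun d => by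
    rw [← qMap_eq_one hZ]
    exact (MulAut.conj g).map_eq_one_iff
  have hl : ψ (.a 2, 1) = cInv Z := by
    show (MulAut.conj g).toMonoidHom (qMap Z _) = _
    rw [qMap_left hZ, hψc]
  have hr : ψ (1, .a 2) = cInv Z := by
    show (MulAut.conj g).toMonoidHom (qMap Z _) = _
    rw [qMap_right hZ, hψc]
  refine ⟨fun u hu v hv => ?_, ?_, fun z hz hc => ?_⟩
  · obtain ⟨⟨u1, u2⟩, rfl⟩ := (hmem u).1 hu
    obtain ⟨⟨v1, v2⟩, rfl⟩ := (hmem v).1 hv
    rw [← map_mul, ← map_mul, Prod.mk_mul_mk, Prod.mk_mul_mk]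
    rcases q8_facts.1 u1 v1 with h1 | h1 <;> rcases q8_facts.1 u2 v2 with h2 | h2
    · left; rw [h1, h2]
    · right; rw [← hr, ← map_mul, Prod.mk_mul_mk, one_mul, h1, h2]
    · right; rw [← hl, ← map_mul, Prod.mk_mul_mk, one_mul, h1, h2]
    · left
      rw [h1, h2, show ((QuaternionGroup.a 2 * (v1 * u1), QuaternionGroup.a 2 * (v2 * u2)) :
        QuaternionGroup 2 × QuaternionGroup 2) = (.a 2, .a 2) * (v1 * u1, v2 * u2) from rfl, map_mul,
        (hψ1 _).2 (Or.inr rfl), one_mul]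
  · refine ⟨_, (hmem _).2 ⟨(1, .a 1), rfl⟩, _, (hmem _).2 ⟨(1, .xa 0), rfl⟩, ?_⟩
    rw [← hr, ← map_mul, ← map_mul, ← map_mul, Prod.mk_mul_mk, Prod.mk_mul_mk, Prod.mk_mul_mk,
      q8_facts.2.2.1, one_mul, one_mul]
  · obtain ⟨⟨d1, d2⟩, rfl⟩ := (hmem z).1 hz
    have hne : (QuaternionGroup.a 2 : QuaternionGroup 2) ≠ 1 := q8_facts.2.2.2.1
    have hk : ∀ w1 w2, d1 * w1 = w1 * d1 ∨ d2 * w2 ≠ w2 * d2 := by
      intro w1 w2
      by_contra hno
      push Not at hno
      have h := hc _ ((hmem _).2 ⟨(w1, w2), rfl⟩)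
      rw [← map_mul, ← map_mul, ← inv_mul_eq_one, ← map_inv, ← map_mul, hψ1, Prod.mk_mul_mk,
        Prod.mk_mul_mk, Prod.inv_mk, Prod.mk_mul_mk, hno.2, inv_mul_cancel] at h
      rcases h with h | h
      · exact hno.1 (inv_mul_eq_one.1 (Prod.ext_iff.1 h).1)
      · exact hne (Prod.ext_iff.1 h).2.symm
    have hk' : ∀ w1 w2, d2 * w2 = w2 * d2 ∨ d1 * w1 ≠ w1 * d1 := by
      intro w1 w2
      by_contra hno
      push Not at hno
      have h := hc _ ((hmem _).2 ⟨(w1, w2), rfl⟩)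
      rw [← map_mul, ← map_mul, ← inv_mul_eq_one, ← map_inv, ← map_mul, hψ1, Prod.mk_mul_mk,
        Prod.mk_mul_mk, Prod.inv_mk, Prod.mk_mul_mk, hno.2, inv_mul_cancel] at h
      rcases h with h | h
      · exact hno.1 (inv_mul_eq_one.1 (Prod.ext_iff.1 h).2)
      · exact hne (Prod.ext_iff.1 h).1.symm
    have h1 : ∀ w, d1 * w = w * d1 := fun w => (hk w 1).resolve_right (by simp)
    have h2 : ∀ w, d2 * w = w * d2 := fun w => (hk' 1 w).resolve_right (by simp)
    rcases q8_facts.2.1 d1 h1 with e1 | e1 <;> rcases q8_facts.2.1 d2 h2 with e2 | e2 <;> rw [e1, e2]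
    · left; exact map_one ψ
    · right; exact hr
    · right; exact hl
    · left; exact (hψ1 _).2 (Or.inr rfl)

end Pair

universe u

variable {X : Type u} [Group X] [Finite X]

/-- For a normal subgroup, the intersection with a Sylow subgroup is a Sylow subgroup of it. -/
theorem exists_sylow_normal (G₁ : Subgroup X) [G₁.Normal] (R : Sylow 2 X) :
    ∃ Q : Sylow 2 G₁, (Q : Subgroup G₁) = (R : Subgroup X).subgroupOf G₁ := by
  haveI := Fact.mk Nat.prime_two
  obtain ⟨Q₀⟩ := (inferInstance : Nonempty (Sylow 2 G₁))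
  obtain ⟨R', hR'⟩ := (Q₀.isPGroup'.map G₁.subtype).exists_le_sylow
  obtain ⟨g, hg⟩ := MulAction.exists_smul_eq X R' R
  let Q : Sylow 2 G₁ := Q₀.mapSurjective (f := (MulAut.conjNormal g : MulAut G₁).toMonoidHom)
    (MulAut.conjNormal g : MulAut G₁).surjective
  refine ⟨Q, (Q.is_maximal' ((R.isPGroup').comap_of_injective G₁.subtype G₁.subtype_injective) ?_).symm⟩
  rintro _ ⟨x, hx, rfl⟩
  show ((MulAut.conjNormal g x : G₁) : X) ∈ (R : Subgroup X)
  rw [← hg, Sylow.coe_subgroup_smul, Subgroup.mem_pointwise_smul_iff_inv_smul_mem]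
  simpa [MulAut.smul_def, mul_assoc] using hR' ⟨x, hx, rfl⟩

/-- In conclusion (b) every automorphism of a Sylow 2-subgroup fixes `t`. -/
theorem fixed_of_concB (hX : SmallMeet X) (hO : Cfsg.oddCore X = ⊥) {S T : Sylow 2 X} (hST : S ≠ T) {t : X}
    (ht : orderOf t = 2) (htc : t ∈ center X) (hB : ConcB X) (R : Sylow 2 X) (φ : MulAut (R : Subgroup X)) :
    φ ⟨t, mem_sylow_of_central ht htc R⟩ = ⟨t, mem_sylow_of_central ht htc R⟩ := by
  haveI := Fact.mk Nat.prime_two
  obtain ⟨G₁, hG₁n, hNn, hidx, -, Z, hZn, hZ, ⟨e₀⟩⟩ := hB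
  have hbot : (Cfsg.oddCore X).subgroupOf G₁ = ⊥ := by rw [hO, bot_subgroupOf]
  let e : G₁ ≃* (SL(2, ZMod 5) × SL(2, ZMod 5)) ⧸ Z :=
    (((QuotientGroup.quotientMulEquivOfEq hbot).trans QuotientGroup.quotientBot).symm).trans e₀
  set c := Pair.cInv Z with hc
  -- the central involution of the subgroup is `t`
  have hg1 : ((e.symm c : G₁) : X) = t := by
    let V : Subgroup X :=
      { carrier := {x | x ∈ G₁ ∧ (∀ y ∈ G₁, x * y = y * x) ∧ x * x = 1}
        one_mem' := ⟨one_mem G₁, fun y _ => by rw [one_mul, mul_one], mul_one 1⟩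
        mul_mem' := by
          rintro a b ⟨ha, hac, ha2⟩ ⟨hb, hbc, hb2⟩
          refine ⟨mul_mem ha hb, fun y hy => by rw [mul_assoc, hbc y hy, ← mul_assoc, hac y hy, mul_assoc], ?_⟩
          rw [mul_assoc, ← mul_assoc b, hbc a ha, mul_assoc, hb2, mul_one, ha2]
        inv_mem' := by
          rintro a ⟨ha, hac, ha2⟩
          rw [inv_eq_of_mul_eq_one_right ha2]
          exact ⟨ha, hac, ha2⟩ }
    haveI : V.Normal := by
      refine ⟨fun x hx g => ⟨hG₁n.conj_mem x hx.1 g, fun y hy => ?_, ?_⟩⟩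
      · have h := hx.2.1 (g⁻¹ * y * g) (by simpa using hG₁n.conj_mem y hy g⁻¹)
        calc g * x * g⁻¹ * y = g * (x * (g⁻¹ * y * g)) * g⁻¹ := by group
          _ = y * (g * x * g⁻¹) := by rw [h]; group
      · rw [show g * x * g⁻¹ * (g * x * g⁻¹) = g * (x * x) * g⁻¹ by group, hx.2.2, mul_one, mul_inv_cancel]
    have hV : IsPGroup 2 V := fun x => ⟨1, Subtype.ext (by rw [pow_one, coe_pow, coe_one, pow_two]; exact x.2.2.2)⟩
    have hcsq : e.symm c * e.symm c = 1 := by rw [← map_mul, Pair.cInv_sq hZ, map_one]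
    have hmem : ((e.symm c : G₁) : X) ∈ V := by
      refine ⟨(e.symm c).2, fun y hy => ?_, congrArg Subtype.val hcsq⟩
      have h : e.symm c * ⟨y, hy⟩ = ⟨y, hy⟩ * e.symm c := e.injective (by
        rw [map_mul, map_mul, e.apply_symm_apply, hc, Pair.cInv_central])
      exact congrArg Subtype.val h
    refine pCore_unique hX hST ht htc (CfsgLib.Core.le_pCore hV hmem) ?_
    rw [Subgroup.orderOf_coe]
    refine orderOf_eq_prime (by rw [pow_two]; exact hcsq) fun h => Pair.cInv_ne hZ ?_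
    rw [← hc, ← e.apply_symm_apply c, h, map_one]
  have htG : t ∈ G₁ := hg1 ▸ (e.symm c).2
  have htR : t ∈ (R : Subgroup X) := mem_sylow_of_central ht htc R
  obtain ⟨Q, hQ⟩ := exists_sylow_normal G₁ R
  obtain ⟨hcomm, hex, hcen⟩ := Pair.sylow_facts hZ (Q.mapSurjective (f := e.toMonoidHom) e.surjective)
  have hQmem : ∀ u : G₁, (u : X) ∈ (R : Subgroup X) → e u ∈ Q.mapSurjective (f := e.toMonoidHom) e.surjective :=
    fun u hu => ⟨u, show u ∈ (Q : Subgroup G₁) by rw [hQ]; exact hu, rfl⟩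
  have hback : ∀ x ∈ Q.mapSurjective (f := e.toMonoidHom) e.surjective, ((e.symm x : G₁) : X) ∈ (R : Subgroup X) := by
    rintro _ ⟨u, hu, rfl⟩
    rw [SetLike.mem_coe, hQ] at hu
    show ((e.symm (e u) : G₁) : X) ∈ _
    rw [e.symm_apply_apply]
    exact hu
  set t₀ : (R : Subgroup X) := ⟨t, htR⟩ with ht₀
  set Q₀ := G₁.subgroupOf (R : Subgroup X) with hQ₀
  have hcommR : ∀ u v : (R : Subgroup X), u ∈ Q₀ → v ∈ Q₀ → u * v = v * u ∨ u * v = t₀ * (v * u) := by
    intro u v hu hv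
    rcases hcomm _ (hQmem ⟨u, hu⟩ u.2) _ (hQmem ⟨v, hv⟩ v.2) with h | h
    · rw [← map_mul, ← map_mul] at h
      exact Or.inl (Subtype.ext (congrArg Subtype.val (e.injective h) :))
    · rw [← map_mul, ← map_mul, ← e.apply_symm_apply (Pair.cInv Z), ← map_mul] at h
      refine Or.inr (Subtype.ext ?_)
      have h' := congrArg Subtype.val (e.injective h)
      simp only [coe_mul] at h'
      show (u : X) * v = t * ((v : X) * u)
      rw [← hg1, h']
  have hcenR : ∀ z : (R : Subgroup X), z ∈ Q₀ → (∀ w ∈ Q₀, z * w = w * z) → z = 1 ∨ z = t₀ := by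
    intro z hz hzc
    have h := hcen _ (hQmem ⟨z, hz⟩ z.2) fun w hw => by
      have hw' := hback w hw
      have h := congrArg Subtype.val (hzc ⟨_, hw'⟩ (e.symm w).2)
      rw [← e.apply_symm_apply w, ← map_mul, ← map_mul]
      exact congrArg e (Subtype.ext h)
    rcases h with h | h
    · exact Or.inl (Subtype.ext (congrArg Subtype.val (e.injective (h.trans (map_one e).symm)) :))
    · refine Or.inr (Subtype.ext ?_)
      show (z : X) = t
      rw [← hg1, hc, ← h, e.symm_apply_apply]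
  obtain ⟨p, hp, q, hq, hpq⟩ := hex
  have hpq' : ∃ u v : (R : Subgroup X), u * v = t₀ * (v * u) := by
    refine ⟨⟨_, hback p hp⟩, ⟨_, hback q hq⟩, Subtype.ext ?_⟩
    show ((e.symm p : G₁) : X) * (e.symm q : G₁) = t * ((e.symm q : G₁) * (e.symm p : G₁))
    rw [← hg1, hc, ← coe_mul, ← coe_mul, ← coe_mul, ← map_mul, ← map_mul, ← map_mul, hpq]
  have ht₀c : ∀ w : (R : Subgroup X), t₀ * w = w * t₀ := fun w =>
    Subtype.ext (mem_center_iff.1 htc w).symm
  have hidx2 : Q₀.index = 1 ∨ Q₀.index = 2 := by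
    obtain ⟨k, hk⟩ := IsPGroup.iff_card.1 (R.isPGroup'.to_quotient Q₀)
    rw [← index_eq_card] at hk
    have h1 : Q₀.index ∣ G₁.index := relIndex_dvd_index_of_normal G₁ R
    rw [hk] at h1
    match k with
    | 0 => exact Or.inl (by rw [hk, pow_zero])
    | 1 => exact Or.inr (by rw [hk, pow_one])
    | k + 2 =>
      exfalso
      rcases hidx with h | ⟨j, hj, hj'⟩
      · exact h.not_two_dvd_nat ((dvd_pow_self 2 (by omega)).trans h1)
      · rw [hj', pow_succ'] at h1
        exact hj.not_two_dvd_nat ((dvd_pow_self 2 (by omega)).trans (Nat.dvd_of_mul_dvd_mul_left (by norm_num) h1))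
  by_contra hne
  set w := φ t₀ with hw
  have hwc : ∀ r, w * r = r * w := fun r => by
    rw [← φ.apply_symm_apply r, hw, ← map_mul, ← map_mul, ht₀c]
  have ht₀1 : t₀ ≠ 1 := fun h => CfsgLib.Signalizer.involution_ne_one ht (congrArg Subtype.val h)
  have hw1 : w ≠ 1 := fun h => ht₀1 (φ.injective (h.trans (map_one φ).symm))
  have hwQ : w ∉ Q₀ := fun hwQ => (hcenR w hwQ fun r _ => hwc r).elim hw1 hne
  have hall : ∀ u v : (R : Subgroup X), u * v = v * u ∨ u * v = t₀ * (v * u) := by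
    have h2 : Q₀.index = 2 := hidx2.resolve_left fun h => hwQ (by rw [index_eq_one.1 h]; trivial)
    have key : ∀ u, ∃ u' ∈ Q₀, ∃ x, (∀ r, x * r = r * x) ∧ u = u' * x := fun u => by
      by_cases hu : u ∈ Q₀
      · exact ⟨u, hu, 1, fun r => by rw [one_mul, mul_one], (mul_one u).symm⟩
      · refine ⟨u * w⁻¹, (mul_mem_iff_of_index_two h2).2 ?_, w, hwc, by group⟩
        simp [hu, hwQ]
    intro u v
    obtain ⟨u', hu, x, hx, rfl⟩ := key u
    obtain ⟨v', hv, y, hy, rfl⟩ := key v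
    have e1 : u' * x * (v' * y) = u' * v' * (x * y) := by
      rw [mul_assoc, ← mul_assoc x, hx v', mul_assoc v', ← mul_assoc]
    have e2 : v' * y * (u' * x) = v' * u' * (x * y) := by
      rw [mul_assoc, ← mul_assoc y, hy u', mul_assoc u', ← mul_assoc, hy x]
    rcases hcommR u' v' hu hv with h | h
    · exact Or.inl (by rw [e1, e2, h])
    · exact Or.inr (by rw [e1, e2, h, mul_assoc])
  obtain ⟨u, v, huv⟩ := hpq'
  have h := congrArg φ huv
  rw [map_mul, map_mul, map_mul, ← hw] at h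
  rcases hall (φ u) (φ v) with h' | h'
  · rw [h', right_eq_mul] at h
    exact hw1 h
  · rw [h'] at h
    exact hne (mul_right_cancel h).symm

/-- In both conclusions every automorphism of a Sylow 2-subgroup fixes `t`. -/
theorem fixed_of_conc (hX : SmallMeet X) (hO : Cfsg.oddCore X = ⊥) {S T : Sylow 2 X} (hST : S ≠ T) {t : X}
    (ht : orderOf t = 2) (htc : t ∈ center X) (h : ConcA X ∨ ConcB X) (R : Sylow 2 X)
    (φ : MulAut (R : Subgroup X)) :
    φ ⟨t, mem_sylow_of_central ht htc R⟩ = ⟨t, mem_sylow_of_central ht htc R⟩ := by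
  rcases h with h | h
  · exact fixed_of_concA hX hO hST ht htc h R φ
  · exact fixed_of_concB hX hO hST ht htc h R φ

end CfsgLib.RankOneInter
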