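import Cfsg.Agent.Lib.Invol.RankOneInter.PartA.Defs
import Cfsg.Agent.Lib.Recog.USylow.Structure
import Cfsg.Agent.Lib.Recog.PrimeGraph
import Cfsg.Agent.Lib.Classical.Unitary.MatrixStructure
import Cfsg.Agent.Lib.Lie.Suzuki.Borel
import Cfsg.Agent.Lib.Classical.PSLTwoSimple

/-!
Owner: helper16. Part A of S3310: what is used of the three families.

* `SylTwo U`: exponent four, and either abelian or the centralisers of two non-commuting elements meet
  in a small subgroup.
* `FamilyName.facts`: the groups named in (a) are simple and their Sylow 2-subgroups have `SylTwo`.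
-/

set_option autoImplicit false
set_option linter.unusedSectionVars false
set_option linter.style.haveILetI false

namespace CfsgLib.RankOneInter

open Subgroup

/-- The property of a Sylow 2-subgroup. -/
def SylTwo (U : Type*) [Group U] : Prop :=
  (∀ x : U, x ^ 4 = 1) ∧ ((∀ x y : U, x * y = y * x) ∨
    (32 ≤ Nat.card U ∧ ∃ Z : Subgroup U, 4 * Nat.card Z < Nat.card U ∧
      ∀ x y w : U, x * y ≠ y * x → Commute w x → Commute w y → w ∈ Z))

theorem SylTwo.of_equiv {U V : Type*} [Group U] [Group V] (h : SylTwo V) (e : U ≃* V) : SylTwo U := by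
  have hc : ∀ x y : U, x * y = y * x ↔ e x * e y = e y * e x := fun x y => by
    rw [← map_mul, ← map_mul, e.injective.eq_iff]
  refine ⟨fun x => e.injective (by rw [map_pow, map_one]; exact h.1 _), ?_⟩
  rcases h.2 with hab | ⟨h32, Z, hZ, hw⟩
  · exact Or.inl fun x y => (hc x y).2 (hab _ _)
  · refine Or.inr ⟨by rwa [Nat.card_congr e.toEquiv], Z.comap e.toMonoidHom, ?_, fun x y w hxy hwx hwy =>
      hw (e x) (e y) (e w) (fun h' => hxy ((hc x y).2 h')) (hwx.map e.toMonoidHom) (hwy.map e.toMonoidHom)⟩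
    rw [Nat.card_congr e.toEquiv]
    refine lt_of_le_of_lt (le_of_eq (congrArg (4 * ·) (Nat.card_congr ?_))) hZ
    exact e.toEquiv.subtypeEquiv fun x => mem_comap

section Suzuki

open CfsgLib.Lie.Suzuki

variable {F : Type} [Field F] [CharP F 2] [Fintype F] {m : ℕ} (hF : Fintype.card F = 2 ^ (2 * m + 1))

theorem sylTwo_unip (hm : 1 ≤ m) : SylTwo ↥(unip hF) := by
  classical
  have h8 : 8 ≤ Fintype.card F := by
    rw [hF]
    calc 8 = 2 ^ 3 := rfl
      _ ≤ _ := Nat.pow_le_pow_right (by norm_num) (by omega)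
  refine ⟨?_, Or.inr ⟨?_, ?_⟩⟩
  · rintro ⟨_, a, b, rfl⟩
    exact Subtype.ext (uS_pow_four hF a b)
  · rw [card_unip hF]; nlinarith
  let Z : Subgroup ↥(unip hF) :=
    { carrier := {g | ∃ b, (g : Cfsg.Sz F m) = uS hF 0 b}
      one_mem' := ⟨0, (uS_one hF).symm⟩
      mul_mem' := by
        rintro g g' ⟨b, hb⟩ ⟨b', hb'⟩
        exact ⟨b + b', by rw [coe_mul, hb, hb', uS_mul]; simp⟩
      inv_mem' := by
        rintro g ⟨b, hb⟩
        exact ⟨b, by rw [coe_inv, hb, uS_inv]; simp⟩ }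
  refine ⟨Z, ?_, ?_⟩
  · have hle : Nat.card Z ≤ Fintype.card F := by
      rw [← Nat.card_eq_fintype_card]
      refine Nat.card_le_card_of_surjective
        (fun b : F => (⟨⟨uS hF 0 b, uS_mem hF _ _⟩, b, rfl⟩ : Z)) ?_
      rintro ⟨g, b, hb⟩
      exact ⟨b, Subtype.ext (Subtype.ext hb.symm)⟩
    rw [card_unip hF]
    nlinarith
  · rintro ⟨_, a, b, rfl⟩ ⟨_, c, d, rfl⟩ ⟨_, e, f, rfl⟩ hxy hwx hwy
    have key : ∀ {a b c d : F}, uS hF a b * uS hF c d = uS hF c d * uS hF a b ↔ th F m a * c = th F m c * a := by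
      intro a b c d
      rw [uS_mul, uS_mul]
      refine ⟨fun h => ?_, fun h => by rw [h, add_comm a c, add_comm b d]⟩
      have h2 := (uS_inj hF h).2
      linear_combination h2
    have h1 : th F m a * c ≠ th F m c * a := fun h => hxy (Subtype.ext (key.2 h))
    have h2 := key.1 (congrArg Subtype.val hwx.eq)
    have h3 := key.1 (congrArg Subtype.val hwy.eq)
    by_cases he : e = 0
    · subst he; exact ⟨f, rfl⟩
    refine absurd ?_ h1
    refine mul_right_cancel₀ he ?_
    linear_combination a * h3 - c * h2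

end Suzuki

theorem sylTwo_psl {F : Type} [Field F] [Fintype F] [CharP F 2]
    (U : Sylow 2 (Matrix.ProjectiveSpecialLinearGroup (Fin 2) F)) : SylTwo ↥(U : Subgroup (Matrix.ProjectiveSpecialLinearGroup (Fin 2) F)) := by
  obtain ⟨e⟩ := CfsgLib.Recog.AffineTwo.psl_equiv_sl F
  have hsq : ∀ x : ↥(U : Subgroup (Matrix.ProjectiveSpecialLinearGroup (Fin 2) F)), x * x = 1 := by
    intro x
    haveI := Fact.mk Nat.prime_two
    obtain ⟨k, hk⟩ := IsPGroup.iff_orderOf.1 U.isPGroup' x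
    by_contra hx
    have hk2 : 2 ≤ k := by
      by_contra hlt
      refine hx ?_
      rw [← pow_two]
      refine orderOf_dvd_iff_pow_eq_one.1 (hk ▸ ?_)
      exact (pow_dvd_pow 2 (show k ≤ 1 by omega))
    set y := x ^ 2 ^ (k - 2) with hy
    have hy4 : y ^ 4 = 1 := by
      rw [hy, ← pow_mul, show 2 ^ (k - 2) * 4 = 2 ^ k by
        rw [show (4 : ℕ) = 2 ^ 2 from rfl, ← pow_add]; congr 1; omega, ← hk, pow_orderOf_eq_one]
    have h2 : e (y : Matrix.ProjectiveSpecialLinearGroup (Fin 2) F) * e y = 1 :=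
      CfsgLib.USylow.sl_two_sq_one _ (by rw [← map_pow, ← coe_pow, hy4, coe_one, map_one])
    rw [← map_mul, ← coe_mul, MulEquiv.map_eq_one_iff, OneMemClass.coe_eq_one, ← pow_two, hy, ← pow_mul,
      ← orderOf_dvd_iff_pow_eq_one, hk, ← pow_succ, Nat.pow_dvd_pow_iff_le_right (by norm_num)] at h2
    omega
  refine ⟨fun x => by rw [show (4 : ℕ) = 2 * 2 from rfl, pow_mul, pow_two x, hsq, one_pow], Or.inl fun x y => ?_⟩
  have hi : ∀ z : ↥(U : Subgroup (Matrix.ProjectiveSpecialLinearGroup (Fin 2) F)), z⁻¹ = z :=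
    fun z => inv_eq_of_mul_eq_one_right (hsq z)
  calc x * y = (x * y)⁻¹ := (hi _).symm
    _ = y * x := by rw [mul_inv_rev, hi, hi]

/-- What is used of the three families. -/
theorem FamilyName.facts {J : Type*} [Group J] [Finite J] (h : FamilyName J) :
    IsSimpleGroup J ∧ ∀ U : Sylow 2 J, SylTwo ↥(U : Subgroup J) := by
  haveI := Fact.mk Nat.prime_two
  rcases h with ⟨n, F, iF, iT, hn, hF, ⟨e⟩⟩ | ⟨m, F, iF, iT, hm, hF, ⟨e⟩⟩ | ⟨n, F, iF, iT, hn, hF, ⟨e⟩⟩
  · haveI : CharP F 2 := charP_of_card_eq_prime_pow hF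
    haveI := CfsgLib.Classical.isSimpleGroup_PSL_two (F := F) (by
      rw [hF]; exact le_trans (by norm_num) (Nat.pow_le_pow_right (by norm_num) hn))
    refine ⟨e.isSimpleGroup, fun U => ?_⟩
    exact (sylTwo_psl (U.mapSurjective (f := e.toMonoidHom) e.surjective)).of_equiv
      (equivMapOfInjective _ e.toMonoidHom e.injective)
  · haveI := CfsgLib.Lie.Suzuki.charTwo_of_card hF
    classical
    let f : J ≃* Cfsg.Sz F m := e.trans (CfsgLib.Lie.Suzuki.equivLie hm hF).symm
    haveI := CfsgLib.Lie.Suzuki.isSimple hF hm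
    refine ⟨f.isSimpleGroup, fun U => ?_⟩
    exact (sylTwo_unip hF hm).of_equiv
      ((equivMapOfInjective _ f.toMonoidHom f.injective).trans
        ((U.mapSurjective (f := f.toMonoidHom) f.surjective).equiv (CfsgLib.Lie.Suzuki.sylU hF hm)))
  · have hF' : Fintype.card F = (2 ^ n) ^ 2 := by rw [hF, ← pow_mul, mul_comm, pow_mul]; norm_num
    have h4 : 4 ≤ 2 ^ n := le_trans (by norm_num) (Nat.pow_le_pow_right (by norm_num) hn)
    haveI := CfsgLib.Classical.Herm.isSimpleGroup_PSU' (F := F) hF' 3 le_rfl (fun _ => by omega)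
    refine ⟨e.isSimpleGroup, fun U => ?_⟩
    have hU := CfsgLib.USylow.uType_psu (by omega : 1 ≤ n) hF' (U.mapSurjective (f := e.toMonoidHom) e.surjective)
    suffices h : SylTwo ↥((U.mapSurjective (f := e.toMonoidHom) e.surjective :
        Sylow 2 (Cfsg.PSU 3 F (2 ^ n))) : Subgroup (Cfsg.PSU 3 F (2 ^ n))) from
      h.of_equiv (equivMapOfInjective _ e.toMonoidHom e.injective)
    refine ⟨fun x => ?_, Or.inr ⟨?_, Subgroup.center _, ?_, fun x y w hxy hwx hwy => ?_⟩⟩
    · rw [show (4 : ℕ) = 2 * 2 from rfl, pow_mul, pow_two, pow_two]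
      exact (hU.center_iff _).1 (hU.sq_mem x)
    · refine le_trans ?_ (le_of_eq hU.card.symm)
      calc 32 ≤ 4 ^ 3 := by norm_num
        _ ≤ (2 ^ n) ^ 3 := Nat.pow_le_pow_left h4 3
    · refine lt_of_le_of_lt (le_of_eq (congrArg (4 * ·) hU.card_center)) (lt_of_lt_of_eq ?_ hU.card.symm)
      calc 4 * 2 ^ n < 4 * 4 * 2 ^ n := by omega
        _ ≤ 2 ^ n * 2 ^ n * 2 ^ n := Nat.mul_le_mul_right _ (Nat.mul_le_mul h4 h4)
        _ = (2 ^ n) ^ 3 := by ring
    · by_contra hw
      exact hxy (hU.cen_comm w hw x y hwx.symm hwy.symm)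

end CfsgLib.RankOneInter
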