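import Cfsg.Agent.S1237
import Cfsg.Agent.Lib.Invol.RankOneInter.PartA.Facts

/-!
Owner: helper16. Part A of S3310: a Sylow 2-subgroup with exactly three involutions.

* `three_fixed`: if a 2-group with three involutions, all central, contains two elements with
  `a² = b² = [a,b] = t ≠ 1`, then an automorphism of odd order fixes `t`.
-/

set_option autoImplicit false
set_option linter.style.haveILetI false
set_option linter.unusedSectionVars false

namespace CfsgLib.RankOneInter

open Subgroup
open CfsgLib.PGroups.Suzuki CfsgLib.Classical CfsgLib.Classical.Herm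

universe u

/-- In a Sylow 2-subgroup of `PSU(3,16)` no two non-commuting elements have the same square as their commutator. -/
theorem no_q8_in_param {F : Type} [Field F] [CharP F 2] {σ : F →+* F} (hσ : IsInvol σ) (h4 : ∀ x, σ x = x ^ 4)
    {P : Type*} [Group P] (X : Unitary.Param σ P) {A B : P} (hA : A * A ≠ 1) (hB : B * B = A * A)
    (hAB : A * B = A * A * (B * A)) : False := by
  obtain ⟨x, rfl⟩ := X.el.surjective A
  obtain ⟨y, rfl⟩ := X.el.surjective B
  obtain ⟨zx, hzx, hzxe⟩ := X.sq hσ x
  obtain ⟨zy, hzy, hzye⟩ := X.sq hσ y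
  rw [hzxe, hzye, X.el.apply_eq_iff_eq, Subtype.ext_iff, hzx, hzy, Prod.mk.injEq] at hB
  rw [hzxe, X.mul' hσ, X.mul' hσ, X.mul' hσ, X.el.apply_eq_iff_eq, Subtype.ext_iff] at hAB
  simp only [Unitary.Param.prod, hzx, map_zero, zero_mul, add_zero, zero_add, Prod.mk.injEq] at hAB
  set s := x.1.1 with hs
  set r := y.1.1 with hr
  have hs0 : s ≠ 0 := fun h => hA (by rw [hzxe, X.eq_one_iff, hzx, h, mul_zero])
  have hsq : σ r * r = σ s * s := hB.2
  have hcom : σ s * r = σ s * s + σ r * s := by linear_combination hAB.2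
  set w := r / s with hw
  have hr' : r = w * s := by rw [hw, div_mul_cancel₀ r hs0]
  rw [hr', map_mul] at hsq hcom
  have hss : σ s * s ≠ 0 := mul_ne_zero (fun h => hs0 (IsInvol.apply_eq_zero_iff.1 h)) hs0
  have h1 : σ w * w = 1 := mul_right_cancel₀ hss (by linear_combination hsq)
  have h2 : w = 1 + σ w := mul_right_cancel₀ hss (by linear_combination hcom)
  have h3 : w * w + w + 1 = 0 := by
    linear_combination w * h2 + h1 + CharTwo.add_self_eq_zero w + CharTwo.add_self_eq_zero (1 : F)
  have h5 : σ w = w := by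
    rw [h4]
    linear_combination (w * w - w) * h3
  rw [h5] at h2
  exact one_ne_zero (α := F) (by linear_combination -h2)

variable {S : Type u} [Group S] [Finite S]

/-- An automorphism of odd order fixes the square of a quaternion subgroup. -/
theorem three_fixed (hS : IsPGroup 2 S) {z₁ z₂ : S} (h₁ : orderOf z₁ = 2) (h₂ : orderOf z₂ = 2) (hne : z₁ ≠ z₂)
    (hc : z₁ * z₂ = z₂ * z₁) (hthree : ∀ x : S, orderOf x = 2 → x = z₁ ∨ x = z₂ ∨ x = z₁ * z₂)
    {a b t : S} (ht : orderOf t = 2) (ha : a * a = t) (hb : b * b = t) (hab : a * b = t * (b * a))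
    (φ : MulAut S) {m : ℕ} (hm : Odd m) (hφ : φ ^ m = 1) : φ t = t := by
  classical
  haveI := Fact.mk Nat.prime_two
  by_contra hmove
  have hord : ∀ k : ℕ, orderOf ((φ ^ k) t) = 2 := fun k => by rw [MulEquiv.orderOf_eq, ht]
  have hinv : ∀ k : ℕ, (φ ^ k) t ∈ ({z₁, z₂, z₁ * z₂} : Finset S) := fun k => by
    simpa using hthree _ (hord k)
  have hsucc : ∀ k : ℕ, (φ ^ (k + 1)) t = φ ((φ ^ k) t) := fun k => by rw [pow_succ', MulAut.mul_apply]
  have h20 : (φ ^ 2) t ≠ t := fun h2 => hmove (by
    have he : ∀ j : ℕ, ((φ ^ 2) ^ j) t = t := fun j => by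
      induction j with
      | zero => simp
      | succ j ih => rw [pow_succ, MulAut.mul_apply, h2, ih]
    obtain ⟨j, rfl⟩ := hm
    have h := congrArg (fun ψ : MulAut S => ψ t) hφ
    simp only [pow_succ', pow_mul, MulAut.mul_apply, MulAut.one_apply] at h
    rwa [he] at h)
  have h21 : (φ ^ 2) t ≠ φ t := fun h2 => hmove (φ.injective ((hsucc 1).symm.trans h2 |>.trans rfl) |> fun h => by
    simpa using h)
  have hall : ∀ x : S, orderOf x = 2 → x = t ∨ x = φ t ∨ x = (φ ^ 2) t := by
    intro x hx
    have hsub : ({t, φ t, (φ ^ 2) t} : Finset S) ⊆ {z₁, z₂, z₁ * z₂} := by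
      intro u hu
      simp only [Finset.mem_insert, Finset.mem_singleton] at hu
      rcases hu with rfl | rfl | rfl
      · simpa using hinv 0
      · simpa using hinv 1
      · exact hinv 2
    have hcard : ({t, φ t, (φ ^ 2) t} : Finset S).card = 3 := by
      rw [Finset.card_insert_of_notMem, Finset.card_insert_of_notMem, Finset.card_singleton]
      · simpa using h21.symm
      · simpa using ⟨fun h => hmove h.symm, h20.symm⟩
    have he := Finset.eq_of_subset_of_card_le hsub (by rw [hcard]; exact Finset.card_le_three)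
    have hxm : x ∈ ({z₁, z₂, z₁ * z₂} : Finset S) := by simpa using hthree x hx
    rw [← he] at hxm
    simpa using hxm
  have hφ3 : (φ ^ 3) t = t := by
    rcases hall _ (hord 3) with h | h | h
    · exact h
    · exfalso; rw [hsucc 2] at h; exact h20 (φ.injective h)
    · exfalso; rw [hsucc 2] at h; exact h21 (φ.injective (h.trans (hsucc 1)) |>.trans (by simp))
  have htrans : ∀ s' t' : S, orderOf s' = 2 → orderOf t' = 2 → ∃ k : ℕ, (φ ^ k) s' = t' := by
    have hto : ∀ x : S, orderOf x = 2 → ∃ i : ℕ, (φ ^ i) x = t ∧ ∃ j : ℕ, (φ ^ j) t = x := by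
      intro x hx
      rcases hall x hx with rfl | rfl | rfl
      · exact ⟨0, by simp, 0, by simp⟩
      · exact ⟨2, by rw [← MulAut.mul_apply, ← pow_succ]; exact hφ3, 1, by simp⟩
      · exact ⟨1, by rw [← MulAut.mul_apply, ← pow_add]; exact hφ3, 2, rfl⟩
    intro s' t' hs' ht'
    obtain ⟨i, hi, -⟩ := hto s' hs'
    obtain ⟨-, -, j, hj⟩ := hto t' ht'
    exact ⟨j + i, by rw [pow_add, MulAut.mul_apply, hi, hj]⟩
  have hr2 : Cfsg.PRankLE 2 2 S := by
    intro A _ hA
    have hsub : (Set.univ : Set A) ⊆ {x | (x : S) = 1} ∪ {x | (x : S) = z₁} ∪ {x | (x : S) = z₂} ∪ {x | (x : S) = z₁ * z₂} := by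
      intro x _
      by_cases hx : (x : S) = 1
      · exact Or.inl (Or.inl (Or.inl hx))
      · rcases hthree x (orderOf_eq_prime (hA x x.2) hx) with h | h | h
        exacts [Or.inl (Or.inl (Or.inr h)), Or.inl (Or.inr h), Or.inr h]
    have hone : ∀ v : S, ({x : A | (x : S) = v}).ncard ≤ 1 := fun v =>
      (Set.ncard_le_one (Set.toFinite _)).2 fun p hp q hq => Subtype.ext (hp.trans hq.symm)
    rw [← Set.ncard_univ A]
    refine (Set.ncard_le_ncard hsub).trans ?_
    refine (Set.ncard_union_le _ _).trans ?_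
    refine (Nat.add_le_add ((Set.ncard_union_le _ _).trans (Nat.add_le_add ((Set.ncard_union_le _ _).trans
      (Nat.add_le_add (hone _) (hone _))) (hone _))) (hone _)).trans ?_
    norm_num
  have hr1 : ¬ Cfsg.PRankLE 2 1 S := by
    intro h
    have h1 := CfsgLib.Signalizer.involution_sq h₁
    have h2 := CfsgLib.Signalizer.involution_sq h₂
    have h4 := h (closure ({z₁, z₂} : Set S)) (Subgroup.isMulCommutative_closure (by
      rintro u (rfl | rfl) v (rfl | rfl)
      exacts [rfl, hc, hc.symm, rfl])) (fun u hu => by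
        rcases CfsgLib.TwoFusion.DihedralProduct.mem_closure_pair_cases h1 h2 hc hu with rfl | rfl | rfl | rfl
        · exact one_pow 2
        · rw [pow_two]; exact h1
        · rw [pow_two]; exact h2
        · rw [(show Commute z₁ z₂ from hc).mul_pow, pow_two, pow_two, h1, h2, one_mul])
    rw [CfsgLib.TwoFusion.DihedralProduct.card_closure_pair h₁ h₂ hc hne] at h4
    omega
  letI : Fintype (GaloisField 2 4) := Fintype.ofFinite _
  have hF : Fintype.card (GaloisField 2 4) = 16 := by
    rw [← Nat.card_eq_fintype_card, GaloisField.card 2 4 (by norm_num)]; norm_num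
  obtain ⟨P⟩ := (inferInstance : Nonempty (Sylow 2 (Cfsg.PSU 3 (GaloisField 2 4) 4)))
  have ht1 := CfsgLib.Signalizer.involution_ne_one ht
  rcases Cfsg.Agent.S1237.result hS hr2 hr1 φ htrans hF P with ⟨n, -, ⟨e⟩⟩ | he
  · refine ht1 (e.injective ?_)
    have h := congrArg e hab
    rw [map_mul, map_mul, map_mul, mul_comm (e b) (e a)] at h
    rw [map_one]
    exact mul_eq_right.1 h.symm
  · obtain ⟨e⟩ := he
    have hF' : Fintype.card (GaloisField 2 4) = (2 ^ 2) ^ 2 := by rw [hF]; norm_num
    haveI := Unitary.charP_two (by norm_num : 1 ≤ 2) hF'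
    obtain ⟨X⟩ := Unitary.exists_param (n := 2) (by norm_num) hF' P
    refine no_q8_in_param (powHom_isInvol hF') (fun x => ?_) X (A := e a) (B := e b) ?_ ?_ ?_
    · rw [powHom_apply]; norm_num
    · rw [← map_mul, ha]; exact fun h => ht1 (e.injective (h.trans (map_one e).symm))
    · rw [← map_mul, ← map_mul, ha, hb]
    · rw [← map_mul, ← map_mul, ← map_mul, ← map_mul, ha, ← hab]

end CfsgLib.RankOneInter
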