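import Cfsg.Agent.Lib.Invol.RankOneInter.PartA.Bridge
import Cfsg.Agent.Lib.Invol.RankOneInter.PartA.Three

/-!
Owner: helper16. Part A of S3310: there is a central involution.

* `central_of_fixed_normalizer`: a central involution of a Sylow subgroup fixed by its normaliser is central.
* `fixed_in_centralizer`: the automorphisms of `S ⊓ C(t)` coming from its normaliser fix `t`, when there is an
  elementary group of order eight.
* `exists_central`.
-/

set_option autoImplicit false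
set_option linter.style.haveILetI false
set_option linter.unusedSectionVars false

namespace CfsgLib.RankOneInter

open Subgroup
open CfsgLib.Signalizer (involution_sq involution_ne_one)

universe u

variable {G : Type u} [Group G] [Finite G]

/-- A central involution of a Sylow subgroup fixed by its normaliser is central. -/
theorem central_of_fixed_normalizer (hG : SmallMeet G) (hO : Cfsg.oddCore G = ⊥) {S : Sylow 2 G} {z : G}
    (hz : orderOf z = 2) (hzS : z ∈ (S : Subgroup G)) (hzc : ∀ s ∈ (S : Subgroup G), s * z = z * s)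
    (hn : ∀ n ∈ normalizer (S : Set G), n * z * n⁻¹ = z) : z ∈ center G := by
  haveI := Fact.mk Nat.prime_two
  have hiso : ∀ g : G, g * z * g⁻¹ ∈ (S : Subgroup G) → g * z * g⁻¹ = z := by
    intro g hgS
    by_contra hne
    set y := g * z * g⁻¹ with hy
    have hyz : z * y = y * z := (hzc y hgS).symm
    have hy2 : orderOf y = 2 := by rw [hy, CfsgLib.Signalizer.orderOf_conj, hz]
    set C := centralizer ({y} : Set G) with hC
    have hzC : z ∈ C := mem_centralizer_singleton_iff.2 hyz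
    have hT : ((g • S : Sylow 2 G) : Subgroup G) ≤ C := by
      intro s hs
      rw [Sylow.coe_subgroup_smul, Subgroup.mem_pointwise_smul_iff_inv_smul_mem] at hs
      have h1 := hzc _ hs
      simp only [MulAut.smul_def, map_inv, MulAut.conj_inv_apply] at h1
      refine mem_centralizer_singleton_iff.2 ?_
      calc s * y = g * (g⁻¹ * s * g * z) * g⁻¹ := by rw [hy]; group
        _ = g * (z * (g⁻¹ * s * g)) * g⁻¹ := by rw [h1]
        _ = y * s := by rw [hy]; group
    obtain ⟨U, hU⟩ := (IsPGroup.of_card (p := 2) (n := 1) (G := zpowers (⟨z, hzC⟩ : C))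
      (by rw [Nat.card_zpowers, ← Subgroup.orderOf_coe, hz, pow_one])).exists_le_sylow
    obtain ⟨⟨c, hc⟩, hcc⟩ := MulAction.exists_smul_eq C ((g • S).subtype hT) U
    have hcy : ∀ {w : G}, w * y = y * w → c⁻¹ * w * c * y = y * (c⁻¹ * w * c) := fun {w} h => by
      have h' := mem_centralizer_singleton_iff.1 hc
      calc c⁻¹ * w * c * y = c⁻¹ * (w * y) * c := by rw [mul_assoc (c⁻¹ * w), h']; group
        _ = c⁻¹ * (y * w) * c := by rw [h]
        _ = y * (c⁻¹ * w * c) := by
          rw [← mul_assoc c⁻¹, (show c⁻¹ * y = y * c⁻¹ by rw [eq_mul_inv_iff_mul_eq, mul_assoc, ← h']; group)]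
          group
    set S₂ : Sylow 2 G := c • (g • S) with hS₂
    have hS₂C : (S₂ : Subgroup G) ≤ C := by
      intro w hw
      rw [hS₂, Sylow.coe_subgroup_smul, Subgroup.mem_pointwise_smul_iff_inv_smul_mem] at hw
      have h1 : c⁻¹ * w * c ∈ C := hT (by simpa [MulAut.smul_def] using hw)
      simpa [mul_assoc] using mul_mem (mul_mem hc h1) (inv_mem hc)
    have hzS₂ : z ∈ (S₂ : Subgroup G) := by
      have h1 : (⟨z, hzC⟩ : C) ∈ (U : Subgroup C) := hU (mem_zpowers _)
      rw [← hcc, Sylow.smul_subtype] at h1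
      exact h1
    have hyS₂ : y ∈ (S₂ : Subgroup G) := by
      rw [hS₂, Sylow.coe_subgroup_smul, Subgroup.mem_pointwise_smul_iff_inv_smul_mem]
      have h' := mem_centralizer_singleton_iff.1 hc
      have : c⁻¹ * y * c = y := by rw [mul_assoc, ← h', inv_mul_cancel_left]
      simp only [MulAut.smul_def, map_inv, MulAut.conj_inv_apply, this]
      rw [Sylow.coe_subgroup_smul, Subgroup.mem_pointwise_smul_iff_inv_smul_mem]
      simpa [hy, MulAut.smul_def, mul_assoc] using hzS
    have hSS : S = S₂ := hG S S₂ z y hz hy2 (Ne.symm hne) hyz hzS hgS hzS₂ hyS₂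
    obtain ⟨n, hnn, hnz⟩ := hG.exists_conj_normalizer hz hzS hzc hgS fun s hs =>
      mem_centralizer_singleton_iff.1 (hS₂C (hSS ▸ hs))
    exact hne (hnz.symm.trans (hn n hnn))
  refine mem_center_iff.2 fun g => ?_
  have h := CfsgLib.ZStar.mem_oddCore_of_sylow S hz hzS hiso g
  rw [hO, mem_bot, mul_inv_eq_one, mul_inv_eq_iff_eq_mul] at h
  exact h.symm

/-- If the odd elements of a normaliser fix `t`, so does every element. -/
theorem fixed_of_odd {S : Sylow 2 G} {t : G} (htc : ∀ s ∈ (S : Subgroup G), s * t = t * s)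
    (h : ∀ n ∈ normalizer (S : Set G), Odd (orderOf n) → n * t * n⁻¹ = t) :
    ∀ n ∈ normalizer (S : Set G), n * t * n⁻¹ = t := by
  haveI := Fact.mk Nat.prime_two
  intro n hn
  obtain ⟨k, m, hm, hkm⟩ := Nat.exists_eq_two_pow_mul_odd (orderOf_pos n).ne'
  have hodd : n ^ (2 ^ k) ∈ centralizer ({t} : Set G) := by
    refine mem_centralizer_singleton_iff.2 (mul_inv_eq_iff_eq_mul.1 (h _ (pow_mem hn _) ?_))
    rw [orderOf_pow' n (pow_pos two_pos k).ne', hkm, Nat.gcd_eq_right (dvd_mul_right _ _),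
      Nat.mul_div_cancel_left _ (pow_pos two_pos k)]
    exact hm
  have htwo : n ^ m ∈ centralizer ({t} : Set G) := by
    have hp : IsPGroup 2 (zpowers (n ^ m)) := IsPGroup.of_card (n := k) (by
      rw [Nat.card_zpowers, orderOf_pow' n hm.pos.ne', hkm, Nat.gcd_eq_right (dvd_mul_left _ _),
        Nat.mul_div_cancel _ hm.pos])
    have h3 : n ^ m ∈ zpowers (n ^ m) ⊓ normalizer (S : Set G) := ⟨mem_zpowers _, pow_mem hn m⟩
    rw [hp.inf_normalizer_sylow S] at h3
    exact mem_centralizer_singleton_iff.2 (htc _ h3.2)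
  have hcop : Nat.Coprime (2 ^ k) m := (Nat.coprime_two_left.2 hm).pow_left k
  have hn' : n = (n ^ (2 ^ k)) ^ Nat.gcdA (2 ^ k) m * (n ^ m) ^ Nat.gcdB (2 ^ k) m := by
    rw [← zpow_natCast n (2 ^ k), ← zpow_natCast n m, ← zpow_mul, ← zpow_mul, ← zpow_add, ← Nat.gcd_eq_gcd_ab,
      hcop.gcd_eq_one, Nat.cast_one, zpow_one]
  have h4 : n ∈ centralizer ({t} : Set G) := hn' ▸ mul_mem (zpow_mem hodd _) (zpow_mem htwo _)
  exact mul_inv_eq_iff_eq_mul.2 (mem_centralizer_singleton_iff.1 h4)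

variable (hTB : TheoremB.{u}) (hG : SmallMeet G)
include hTB hG

/-- The normaliser of `S ⊓ C(t)` fixes `t`. -/
theorem fixed_in_centralizer {S T : Sylow 2 G} (hST : S ≠ T) {t : G}
    (hnc : ¬ IsCyclic ↥((S : Subgroup G) ⊓ (T : Subgroup G))) (ht : orderOf t = 2)
    (htD : t ∈ (S : Subgroup G) ⊓ (T : Subgroup G))
    (htu : ∀ w ∈ (S : Subgroup G) ⊓ (T : Subgroup G), orderOf w = 2 → w = t) {E : Subgroup G}
    (hE : Cfsg.IsElementaryAbelian 2 E) (h8 : 8 ≤ Nat.card E)
    (hER : E ≤ (S : Subgroup G) ⊓ centralizer ({t} : Set G)) {n : G}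
    (hn : n ∈ normalizer (((S : Subgroup G) ⊓ centralizer ({t} : Set G) : Subgroup G) : Set G)) :
    n * t * n⁻¹ = t := by
  classical
  haveI := Fact.mk Nat.prime_two
  set D := (S : Subgroup G) ⊓ (T : Subgroup G) with hD
  set C := centralizer ({t} : Set G) with hC
  set R := (S : Subgroup G) ⊓ C with hR
  have hDC : D ≤ C := fun d hd => mem_centralizer_singleton_iff.2 (mul_inv_eq_iff_eq_mul.1 (htu _
    (mul_mem (mul_mem hd htD) (inv_mem hd)) (by rw [CfsgLib.Signalizer.orderOf_conj, ht])))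
  have htR : t ∈ R := ⟨htD.1, mem_centralizer_singleton_iff.2 rfl⟩
  -- a four group
  have hfour : Four R := by
    haveI : Nontrivial E := Finite.one_lt_card_iff_nontrivial.1 (by omega)
    obtain ⟨x, hxE, hx1, hxt⟩ : ∃ x ∈ E, x ≠ 1 ∧ x ≠ t := by
      by_contra hno
      push Not at hno
      have h : Nat.card E ≤ Nat.card Bool := Nat.card_le_card_of_injective (fun x : E => decide (x = 1))
        fun x y hxy => by
          by_cases hx : x = 1 <;> by_cases hy : y = 1 <;> simp [hx, hy] at hxy ⊢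
          exact Subtype.ext ((hno _ x.2 fun h => hx (Subtype.ext h)).trans
            (hno _ y.2 fun h => hy (Subtype.ext h)).symm)
      rw [Nat.card_eq_fintype_card (α := Bool), Fintype.card_bool] at h
      omega
    exact ⟨x, hER hxE, t, htR, CfsgLib.Signalizer.elementary_orderOf hE hxE hx1, ht, hxt,
      mem_centralizer_singleton_iff.1 (hER hxE).2⟩
  obtain ⟨R₀, hR₀⟩ := hG.exists_sylow_inf hfour
  -- the quotient
  set O := Cfsg.oddCore C with hO
  have hOodd : Odd (Nat.card O) := CfsgLib.ZStar.odd_card_oddCore C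
  set π := QuotientGroup.mk' O with hπ
  have hsurj : Function.Surjective π := QuotientGroup.mk'_surjective O
  have hcomm : ∀ r ∈ R, ∀ o : C, o ∈ O → r * (o : G) = o * r := by
    intro r hr o ho
    refine hG.commute_odd (N := O.map C.subtype) (R := R) hE h8 (hER.trans inf_le_left) ?_ inf_le_left hER ?_ r hr o
      ⟨o, ho, rfl⟩
    · rw [card_map_of_injective C.subtype_injective]; exact hOodd
    · intro x hx
      refine mem_normalizer_iff.2 fun v => ⟨?_, ?_⟩
      · rintro ⟨w, hw, rfl⟩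
        exact ⟨⟨x, hx.2⟩ * w * ⟨x, hx.2⟩⁻¹, (inferInstance : O.Normal).conj_mem w hw _, rfl⟩
      · rintro ⟨w, hw, he⟩
        exact ⟨⟨x, hx.2⟩⁻¹ * w * ⟨x, hx.2⟩,
          by simpa using (inferInstance : O.Normal).conj_mem w hw (⟨x, hx.2⟩⁻¹ : C),
          by rw [map_mul, map_mul, map_inv, he]; simp [mul_assoc]⟩
  have hone : ∀ {w : C}, IsPGroup 2 (zpowers w) → w ∈ O → w = 1 := fun {w} hw hwO => by
    obtain ⟨i, hi⟩ := IsPGroup.iff_card.1 hw
    rw [Nat.card_zpowers] at hi
    exact orderOf_eq_one_iff.1 (Nat.eq_one_of_dvd_coprimes ((Nat.coprime_two_left.2 hOodd).pow_left i)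
      (dvd_of_eq hi) (Subgroup.orderOf_dvd_natCard O hwO))
  have hzp : ∀ {W : Sylow 2 G} {w : C}, (w : G) ∈ (W : Subgroup G) → IsPGroup 2 (zpowers w) := fun {W w} hw => by
    obtain ⟨i, hi⟩ := IsPGroup.iff_orderOf.1 W.isPGroup' ⟨w, hw⟩
    rw [Subgroup.orderOf_mk, Subgroup.orderOf_coe] at hi
    exact IsPGroup.of_card (by rw [Nat.card_zpowers, hi])
  let tC : C := ⟨t, htR.2⟩
  have htbar : orderOf (π tC) = 2 := by
    refine orderOf_eq_prime ?_ fun h => ?_
    · rw [← map_pow, show tC ^ 2 = 1 from Subtype.ext (by rw [coe_pow, coe_one, ← ht, pow_orderOf_eq_one]),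
        map_one]
    · exact involution_ne_one ht (congrArg Subtype.val (hone (hzp (W := S) htR.1) ((QuotientGroup.eq_one_iff _).1 h)))
  have htbarc : π tC ∈ center (C ⧸ O) := mem_center_iff.2 fun q => by
    obtain ⟨c, rfl⟩ := hsurj q
    rw [← map_mul, ← map_mul]
    exact congrArg π (Subtype.ext (mem_centralizer_singleton_iff.1 c.2))
  -- a second Sylow subgroup
  obtain ⟨w, hwT, hwD, hwn⟩ : ∃ w ∈ (T : Subgroup G), w ∉ D ∧ w ∈ normalizer (D : Set G) := by
    haveI : Group.IsNilpotent (T : Subgroup G) := T.isPGroup'.isNilpotent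
    have hlt : D.subgroupOf (T : Subgroup G) < ⊤ := lt_top_iff_ne_top.2 fun h => by
      rw [subgroupOf_eq_top] at h
      exact hST (Sylow.ext (T.is_maximal' S.isPGroup' (h.trans inf_le_left)))
    obtain ⟨⟨w, hwT⟩, hwn, hwD⟩ := SetLike.exists_of_lt (Group.normalizerCondition_of_isNilpotent _ hlt)
    refine ⟨w, hwT, hwD, mem_normalizer_iff.2 fun v => ⟨fun hv => ?_, fun hv => ?_⟩⟩
    · have h1 := (mem_normalizer_iff.1 hwn ⟨v, hv.2⟩).1 hv
      exact h1
    · have hvT : v ∈ (T : Subgroup G) := by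
        have := mul_mem (mul_mem (inv_mem hwT) hv.2) hwT
        simpa [mul_assoc] using this
      exact (mem_normalizer_iff.1 hwn ⟨v, hvT⟩).2 hv
  have hwC : w ∈ C := mem_centralizer_singleton_iff.2 (mul_inv_eq_iff_eq_mul.1 (htu _
    ((mem_normalizer_iff.1 hwn t).1 htD) (by rw [CfsgLib.Signalizer.orderOf_conj, ht])))
  have hwS : w ∉ (S : Subgroup G) := fun h => hwD ⟨h, hwT⟩
  obtain ⟨T₁, hT₁⟩ := (T.isPGroup'.comap_of_injective C.subtype C.subtype_injective :
    IsPGroup 2 ((T : Subgroup G).subgroupOf C)).exists_le_sylow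
  set Rb := R₀.mapSurjective hsurj with hRb
  set Tb := T₁.mapSurjective hsurj with hTb
  have hmemRb : ∀ {r : C}, (r : G) ∈ (S : Subgroup G) → π r ∈ (Rb : Subgroup (C ⧸ O)) := fun {r} hr =>
    ⟨r, show r ∈ (R₀ : Subgroup C) by rw [hR₀]; exact hr, rfl⟩
  have hne : Rb ≠ Tb := by
    intro h
    have h1 : π ⟨w, hwC⟩ ∈ (Tb : Subgroup (C ⧸ O)) := ⟨⟨w, hwC⟩, hT₁ hwT, rfl⟩
    rw [← h] at h1
    obtain ⟨r, hr, hrw⟩ := h1
    rw [SetLike.mem_coe, hR₀, mem_subgroupOf] at hr
    have hoO : r⁻¹ * ⟨w, hwC⟩ ∈ O := (QuotientGroup.eq_one_iff _).1 (by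
      show π _ = 1
      rw [map_mul, map_inv, hrw, inv_mul_cancel])
    set o : C := r⁻¹ * ⟨w, hwC⟩ with ho
    have hro : Commute r o := Subtype.ext (hcomm r ⟨hr, r.2⟩ o hoO)
    obtain ⟨i, hi⟩ := S.isPGroup' ⟨r, hr⟩
    obtain ⟨j, hj⟩ := T.isPGroup' ⟨w, hwT⟩
    have hr' : r ^ 2 ^ (i + j) = 1 := Subtype.ext (by
      rw [coe_pow, coe_one, pow_add, pow_mul]
      have := congrArg Subtype.val hi
      rw [coe_pow, coe_one] at this
      rw [this, one_pow])
    have hw' : (⟨w, hwC⟩ : C) ^ 2 ^ (i + j) = 1 := Subtype.ext (by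
      rw [coe_pow, coe_one, add_comm, pow_add, pow_mul]
      have := congrArg Subtype.val hj
      rw [coe_pow, coe_one] at this
      rw [this, one_pow])
    have h2 : o ^ 2 ^ (i + j) = 1 := by
      have h3 : (r * o) ^ 2 ^ (i + j) = 1 := by rw [ho, mul_inv_cancel_left, hw']
      rwa [hro.mul_pow, hr', one_mul] at h3
    obtain ⟨a, -, ha⟩ := (Nat.dvd_prime_pow Nat.prime_two).1 (orderOf_dvd_of_pow_eq_one h2)
    have : o = 1 := hone (IsPGroup.of_card (by rw [Nat.card_zpowers, ha])) hoO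
    rw [ho, inv_mul_eq_one] at this
    exact hwS (by rw [this] at hr; exact hr)
  have hncb : ¬ IsCyclic ↥((Rb : Subgroup (C ⧸ O)) ⊓ (Tb : Subgroup (C ⧸ O))) := by
    intro hcyc
    apply hnc
    let f : ↥D →* ↥((Rb : Subgroup (C ⧸ O)) ⊓ (Tb : Subgroup (C ⧸ O))) :=
      (π.comp (inclusion hDC)).codRestrict _ fun d =>
        ⟨hmemRb (r := inclusion hDC d) d.2.1, ⟨inclusion hDC d, hT₁ d.2.2, rfl⟩⟩
    exact isCyclic_of_injective f ((injective_iff_map_eq_one f).2 fun d hd => by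
      have h1 := hone (hzp (W := S) (w := inclusion hDC d) d.2.1)
        ((QuotientGroup.eq_one_iff _).1 (congrArg Subtype.val hd))
      exact Subtype.ext (congrArg Subtype.val h1 :))
  -- the Sylow subgroup of the quotient
  let f : R →* C ⧸ O := π.comp (inclusion inf_le_right)
  have hf : Function.Injective f := (injective_iff_map_eq_one f).2 fun r hr => by
    have h1 := hone (hzp (W := S) (w := inclusion inf_le_right r) r.2.1) ((QuotientGroup.eq_one_iff _).1 hr)
    exact Subtype.ext (congrArg Subtype.val h1 :)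
  have hrange : f.range = (Rb : Subgroup (C ⧸ O)) := by
    refine le_antisymm ?_ ?_
    · rintro _ ⟨r, rfl⟩
      exact hmemRb (r := inclusion inf_le_right r) r.2.1
    · rintro _ ⟨r, hr, rfl⟩
      rw [SetLike.mem_coe, hR₀, mem_subgroupOf] at hr
      exact ⟨⟨r, hr, r.2⟩, rfl⟩
  let e : R ≃* (Rb : Subgroup (C ⧸ O)) := (MonoidHom.ofInjective hf).trans (MulEquiv.subgroupCongr hrange)
  have heval : ∀ r, ((e r : (Rb : Subgroup (C ⧸ O))) : C ⧸ O) = f r := fun r => rfl
  set E' := (E.subgroupOf R).map f with hE'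
  have hEc : Nat.card E' = Nat.card E := by
    rw [hE', card_map_of_injective hf, Nat.card_congr (subgroupOfEquivOfLe hER).toEquiv]
  have hEe : Cfsg.IsElementaryAbelian 2 E' := by
    refine ⟨⟨⟨?_⟩⟩, ?_⟩
    · rintro ⟨_, a, ha, rfl⟩ ⟨_, b, hb, rfl⟩
      refine Subtype.ext ?_
      show f a * f b = f b * f a
      rw [← map_mul, ← map_mul]
      exact congrArg f (Subtype.ext (CfsgLib.Signalizer.elementary_comm hE ha hb))
    · rintro _ ⟨a, ha, rfl⟩
      rw [← map_pow, show a ^ 2 = 1 from Subtype.ext (by rw [coe_pow, coe_one]; exact hE.2 _ ha), map_one]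
  let φ : MulAut R := R.normalizerMonoidHom ⟨n, hn⟩
  let ψ : MulAut (Rb : Subgroup (C ⧸ O)) := e.symm.trans (φ.trans e)
  have hfix := fixed_of_theoremB hTB ((hG.subgroup C).quotient O hOodd) CfsgLib.USylow.oddCore_quot hne hncb
    htbar htbarc Rb hEe (by rw [hEc]; exact h8) (by
      rintro _ ⟨a, ha, rfl⟩
      exact hrange ▸ ⟨a, rfl⟩) ψ
  have h1 : (⟨π tC, mem_sylow_of_central htbar htbarc Rb⟩ : (Rb : Subgroup (C ⧸ O))) = e ⟨t, htR⟩ := Subtype.ext rfl
  rw [h1] at hfix
  simp only [ψ, MulEquiv.trans_apply, MulEquiv.symm_apply_apply] at hfix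
  exact congrArg Subtype.val (e.injective hfix)

/-- **Part A of S3310**: a central involution. -/
theorem exists_central (hO : Cfsg.oddCore G = ⊥)
    (hnC : ∃ S T : Sylow 2 G, S ≠ T ∧ ¬ IsCyclic ↥((S : Subgroup G) ⊓ (T : Subgroup G)))
    (hnQ : ∀ (S : Sylow 2 G) (n : ℕ), IsEmpty (↥(S : Subgroup G) ≃* QuaternionGroup (2 ^ (n + 1)))) :
    ∃ z : G, orderOf z = 2 ∧ ∀ g : G, g * z = z * g := by
  classical
  haveI := Fact.mk Nat.prime_two
  obtain ⟨S, T, hST, hnc⟩ := hnC
  set D := (S : Subgroup G) ⊓ (T : Subgroup G) with hD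
  have hDp : IsPGroup 2 D := S.isPGroup'.to_le inf_le_left
  haveI : Nontrivial D := by
    rw [← not_subsingleton_iff_nontrivial]
    intro h
    exact hnc isCyclic_of_subsingleton
  -- the involution of the intersection
  obtain ⟨t₁, ht₁⟩ : ∃ z : center D, orderOf z = 2 := by
    haveI := hDp.center_nontrivial
    obtain ⟨k, hk⟩ := (hDp.to_subgroup (center D)).exists_card_eq
    refine exists_prime_orderOf_dvd_card' 2 ?_
    rw [hk]
    rcases k with _ | k
    · exact absurd hk (by rw [pow_zero]; exact Finite.one_lt_card.ne')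
    · exact dvd_pow_self 2 k.succ_ne_zero
  have hu : ∀ x y : D, orderOf x = 2 → orderOf y = 2 → x = y := by
    suffices h : ∀ x : D, orderOf x = 2 → x = (t₁ : D) from fun x y hx hy => (h x hx).trans (h y hy).symm
    intro x hx
    by_contra hne
    exact hST (hG S T x (t₁ : D) (by rw [Subgroup.orderOf_coe, hx])
      (by rw [Subgroup.orderOf_coe, Subgroup.orderOf_coe, ht₁]) (fun h => hne (Subtype.ext h))
      (congrArg Subtype.val (mem_center_iff.1 t₁.2 x)) x.2.1 (t₁ : D).2.1 x.2.2 (t₁ : D).2.2)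
  obtain ⟨k, ⟨eQ⟩⟩ := Final.quaternion_of_unique hDp hnc hu
  obtain ⟨⟨t, htD⟩, ⟨a, haD⟩, ⟨b, hbD⟩, ht1, htt, -, -, -, ha, hb, hab⟩ := Final.exists_quaternion_pair eQ
  have htt' : t * t = 1 := congrArg Subtype.val htt
  have ht : orderOf t = 2 := orderOf_eq_prime (by rw [pow_two, htt']) fun h => ht1 (Subtype.ext h)
  have htu : ∀ w ∈ D, orderOf w = 2 → w = t := fun w hw hw2 => congrArg Subtype.val
    (hu ⟨w, hw⟩ ⟨t, htD⟩ (by rw [Subgroup.orderOf_mk, hw2]) (by rw [Subgroup.orderOf_mk, ht]))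
  have htc : ∀ d ∈ D, d * t = t * d := fun d hd => mul_inv_eq_iff_eq_mul.1 (htu _
    (mul_mem (mul_mem hd htD) (inv_mem hd)) (by rw [CfsgLib.Signalizer.orderOf_conj, ht]))
  -- central involutions of `S`
  obtain ⟨z₁, hz₁S, hz₁, hz₁c⟩ : ∃ z ∈ (S : Subgroup G), orderOf z = 2 ∧ ∀ s ∈ (S : Subgroup G), s * z = z * s := by
    haveI : Nontrivial (S : Subgroup G) := ⟨⟨t, htD.1⟩, 1, fun h => ht1 (Subtype.ext (congrArg Subtype.val h :))⟩
    haveI := S.isPGroup'.center_nontrivial
    obtain ⟨j, hj⟩ := (S.isPGroup'.to_subgroup (center (S : Subgroup G))).exists_card_eq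
    have h2 : 2 ∣ Nat.card (center (S : Subgroup G)) := by
      rw [hj]
      rcases j with _ | j
      · exact absurd hj (by rw [pow_zero]; exact Finite.one_lt_card.ne')
      · exact dvd_pow_self 2 j.succ_ne_zero
    obtain ⟨⟨⟨z, hzS⟩, hzc⟩, hz⟩ := exists_prime_orderOf_dvd_card' 2 h2
    rw [Subgroup.orderOf_mk, Subgroup.orderOf_mk] at hz
    exact ⟨z, hzS, hz, fun s hs => congrArg Subtype.val (mem_center_iff.1 hzc ⟨s, hs⟩)⟩
  by_cases hone : ∀ y ∈ (S : Subgroup G), orderOf y = 2 → (∀ s ∈ (S : Subgroup G), s * y = y * s) → y = z₁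
  · refine ⟨z₁, hz₁, mem_center_iff.1 (central_of_fixed_normalizer hG hO hz₁ hz₁S hz₁c fun n hn => ?_)⟩
    refine hone _ ((mem_normalizer_iff.1 hn z₁).1 hz₁S) (by rw [CfsgLib.Signalizer.orderOf_conj, hz₁]) fun s hs => ?_
    have h1 : n⁻¹ * s * n ∈ (S : Subgroup G) := by
      have := (mem_normalizer_iff.1 (inv_mem hn) s).1 hs
      simpa using this
    calc s * (n * z₁ * n⁻¹) = n * ((n⁻¹ * s * n) * z₁) * n⁻¹ := by group
      _ = n * z₁ * n⁻¹ * s := by rw [hz₁c _ h1]; group
  push Not at hone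
  obtain ⟨z₂, hz₂S, hz₂, hz₂c, hne⟩ := hone
  have hzz : z₁ * z₂ = z₂ * z₁ := hz₂c z₁ hz₁S
  set R := (S : Subgroup G) ⊓ centralizer ({t} : Set G) with hR
  have hz₁R : z₁ ∈ R := ⟨hz₁S, mem_centralizer_singleton_iff.2 (hz₁c t htD.1).symm⟩
  have hz₂R : z₂ ∈ R := ⟨hz₂S, mem_centralizer_singleton_iff.2 (hz₂c t htD.1).symm⟩
  refine ⟨t, ht, mem_center_iff.1 ?_⟩
  suffices h : (∀ s ∈ (S : Subgroup G), s * t = t * s) ∧
      ∀ n ∈ normalizer (S : Set G), n * t * n⁻¹ = t from
    central_of_fixed_normalizer hG hO ht htD.1 h.1 h.2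
  by_cases hx : ∃ x ∈ R, orderOf x = 2 ∧ x ≠ z₁ ∧ x ≠ z₂ ∧ x ≠ z₁ * z₂
  · obtain ⟨x, hxR, hx2, hx₁, hx₂, hx₃⟩ := hx
    set E := closure ({z₁, z₂, x} : Set G) with hE
    have hER : E ≤ R := (closure_le _).2 (by rintro u (rfl | rfl | rfl); exacts [hz₁R, hz₂R, hxR])
    have hEc : ∀ u ∈ ({z₁, z₂, x} : Set G), ∀ v ∈ ({z₁, z₂, x} : Set G), u * v = v * u := by
      rintro u (rfl | rfl | rfl) v (rfl | rfl | rfl)
      exacts [rfl, hzz, (hz₁c v hxR.1).symm, hzz.symm, rfl, (hz₂c v hxR.1).symm, hz₁c u hxR.1, hz₂c u hxR.1, rfl]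
    have hEm : IsMulCommutative E := Subgroup.isMulCommutative_closure hEc
    have hEe : Cfsg.IsElementaryAbelian 2 E := by
      refine ⟨hEm, fun u hu => ?_⟩
      induction hu using closure_induction with
      | mem w hw =>
        rcases hw with rfl | rfl | rfl <;> rw [pow_two]
        exacts [involution_sq hz₁, involution_sq hz₂, involution_sq hx2]
      | one => exact one_pow 2
      | mul u v hu hv hu2 hv2 =>
        have hcuv : Commute (⟨u, hu⟩ : E) ⟨v, hv⟩ := mul_comm' _ _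
        rw [(show Commute u v from congrArg Subtype.val hcuv.eq).mul_pow, hu2, hv2, mul_one]
      | inv u _ hu2 => rw [inv_pow, hu2, inv_one]
    have h8 : 8 ≤ Nat.card E := by
      set V := closure ({z₁, z₂} : Set G) with hV
      have hVE : V ≤ E := closure_mono (by rintro u (rfl | rfl) <;> simp)
      have h4 : Nat.card V = 4 := CfsgLib.TwoFusion.DihedralProduct.card_closure_pair hz₁ hz₂ hzz (Ne.symm hne)
      have hxV : x ∉ V := fun h => by
        rcases CfsgLib.TwoFusion.DihedralProduct.mem_closure_pair_cases (involution_sq hz₁) (involution_sq hz₂)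
          hzz h with h | h | h | h
        exacts [involution_ne_one hx2 h, hx₁ h, hx₂ h, hx₃ h]
      obtain ⟨c, hc⟩ := card_dvd_of_le hVE
      rw [h4] at hc
      rcases c with _ | _ | c
      · exact absurd hc (by simp [Nat.card_pos.ne'])
      · exact absurd ((eq_of_le_of_card_ge hVE (by rw [hc, h4])) ▸ subset_closure (by simp : x ∈ ({z₁, z₂, x} : Set G))) hxV
      · omega
    have hfixR : ∀ n ∈ normalizer (R : Set G), n * t * n⁻¹ = t := fun n hn =>
      fixed_in_centralizer hTB hG hST hnc ht htD htu hEe h8 hER hn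
    have hSC : (S : Subgroup G) ≤ R := by
      by_contra hnot
      haveI : Group.IsNilpotent (S : Subgroup G) := S.isPGroup'.isNilpotent
      have hlt : R.subgroupOf (S : Subgroup G) < ⊤ := lt_top_iff_ne_top.2 fun h => hnot (subgroupOf_eq_top.1 h)
      obtain ⟨⟨w, hwS⟩, hwn, hwR⟩ := SetLike.exists_of_lt (Group.normalizerCondition_of_isNilpotent _ hlt)
      refine hwR ⟨hwS, mem_centralizer_singleton_iff.2 (mul_inv_eq_iff_eq_mul.1 (hfixR w ?_))⟩
      refine mem_normalizer_iff.2 fun v => ⟨fun hv => ?_, fun hv => ?_⟩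
      · exact (mem_normalizer_iff.1 hwn ⟨v, hv.1⟩).1 hv
      · have hvS : v ∈ (S : Subgroup G) := by
          have := mul_mem (mul_mem (inv_mem hwS) hv.1) hwS
          simpa [mul_assoc] using this
        exact (mem_normalizer_iff.1 hwn ⟨v, hvS⟩).2 hv
    refine ⟨fun s hs => mem_centralizer_singleton_iff.1 (hSC hs).2, fun n hn => hfixR n ?_⟩
    rw [show R = (S : Subgroup G) from le_antisymm inf_le_left hSC]
    exact hn
  · push Not at hx
    have htR : t ∈ R := ⟨htD.1, mem_centralizer_singleton_iff.2 rfl⟩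
    have htS : ∀ s ∈ (S : Subgroup G), s * t = t * s := by
      intro s hs
      rcases eq_or_ne t z₁ with rfl | h1
      · exact hz₁c s hs
      rcases eq_or_ne t z₂ with rfl | h2
      · exact hz₂c s hs
      rw [hx t htR ht h1 h2, ← mul_assoc, hz₁c s hs, mul_assoc, hz₂c s hs, mul_assoc]
    refine ⟨htS, fixed_of_odd htS fun n hn hodd => ?_⟩
    let φ : MulAut (S : Subgroup G) := (S : Subgroup G).normalizerMonoidHom ⟨n, hn⟩
    have hφ : φ ^ orderOf n = 1 := by
      rw [← map_pow, show (⟨n, hn⟩ : normalizer ((S : Subgroup G) : Set G)) ^ orderOf n = 1 from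
        Subtype.ext (by rw [coe_pow, coe_one]; exact pow_orderOf_eq_one n), map_one]
    have ha' : a * a = t := congrArg Subtype.val ha
    have hb' : b * b = t := congrArg Subtype.val hb
    have hab' : a * b * (a * b) = t := congrArg Subtype.val hab
    have hcom : a * b = t * (b * a) := by
      have h1 : a * b = t * (a * b)⁻¹ := by rw [eq_mul_inv_iff_mul_eq, hab']
      have hai : a⁻¹ = t * a := inv_eq_of_mul_eq_one_left (by rw [mul_assoc, ha', htt'])
      have hbi : b⁻¹ = t * b := inv_eq_of_mul_eq_one_left (by rw [mul_assoc, hb', htt'])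
      rw [h1, mul_inv_rev, hai, hbi]
      rw [show t * b * (t * a) = t * (b * t) * a by group, htc b hbD, ← mul_assoc t t, htt', one_mul]
    have h := three_fixed (S := ↥(S : Subgroup G)) S.isPGroup' (z₁ := ⟨z₁, hz₁S⟩) (z₂ := ⟨z₂, hz₂S⟩)
      (by rw [Subgroup.orderOf_mk, hz₁]) (by rw [Subgroup.orderOf_mk, hz₂])
      (fun h => hne (congrArg Subtype.val h).symm) (Subtype.ext hzz) ?_ (a := ⟨a, haD.1⟩) (b := ⟨b, hbD.1⟩)
      (t := ⟨t, htD.1⟩) (by rw [Subgroup.orderOf_mk, ht]) (Subtype.ext ha') (Subtype.ext hb') (Subtype.ext hcom)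
      φ hodd hφ
    · exact congrArg Subtype.val h
    · rintro ⟨w, hw⟩ hw2
      rw [Subgroup.orderOf_mk] at hw2
      by_cases h1 : w = z₁
      · exact Or.inl (Subtype.ext h1)
      by_cases h2 : w = z₂
      · exact Or.inr (Or.inl (Subtype.ext h2))
      exact Or.inr (Or.inr (Subtype.ext (hx w ⟨hw, mem_centralizer_singleton_iff.2 (htS w hw)⟩ hw2 h1 h2)))

end CfsgLib.RankOneInter
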