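import Cfsg.Agent.Lib.Invol.RankOneInter.PartA.LocalB
import Cfsg.Agent.Lib.Invol.RankOneInter.Final.TI

/-!
Owner: helper16. Part A of S3310: the form in which Theorem B is used.

* `fixed_of_theoremB`: with a central involution `t` and an elementary group of order eight in the
  Sylow 2-subgroup `R`, every automorphism of `R` fixes `t`.
-/

set_option autoImplicit false
set_option linter.style.haveILetI false
set_option linter.unusedSectionVars false

namespace CfsgLib.RankOneInter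

open Subgroup

universe u

theorem FamilyName.of_equiv {J K : Type*} [Group J] [Group K] (h : FamilyName K) (e : J ≃* K) : FamilyName J := by
  rcases h with ⟨n, F, iF, iT, hn, hF, ⟨f⟩⟩ | ⟨m, F, iF, iT, hm, hF, ⟨f⟩⟩ | ⟨n, F, iF, iT, hn, hF, ⟨f⟩⟩
  · exact Or.inl ⟨n, F, iF, iT, hn, hF, ⟨e.trans f⟩⟩
  · exact Or.inr (Or.inl ⟨m, F, iF, iT, hm, hF, ⟨e.trans f⟩⟩)
  · exact Or.inr (Or.inr ⟨n, F, iF, iT, hn, hF, ⟨e.trans f⟩⟩)

variable {X : Type u} [Group X] [Finite X]

theorem conc_of_theoremB (hTB : TheoremB.{u}) (hX : SmallMeet X) (hO : Cfsg.oddCore X = ⊥)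
    (hns : ¬ Group.IsSolvable X) {S T : Sylow 2 X} (hST : S ≠ T)
    (hnc : ¬ IsCyclic ↥((S : Subgroup X) ⊓ (T : Subgroup X))) {t : X} (ht : orderOf t = 2) (htc : t ∈ center X)
    (hx : ∃ x : X, orderOf x = 2 ∧ x ≠ t) : ConcA X ∨ ConcB X := by
  rcases hTB X hX hO t ht (fun g => mem_center_iff.1 htc g) hx with hTI | ⟨G₁, hn, hidx, Z, hZn, hZ, ⟨e⟩⟩
  · obtain ⟨hQ, ⟨G₁, hG₁, hodd, hle, L, iL, hfam, f, hf, hker⟩, -⟩ := Final.ti_case hX hO hns hTI hST hnc
    have hbot : Cfsg.pCore 2 X ⊔ Cfsg.oddCore X = Cfsg.pCore 2 X := by rw [hO, sup_bot_eq]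
    have hN : (Cfsg.pCore 2 X ⊔ Cfsg.oddCore X).subgroupOf G₁ = f.ker := by rw [hbot, hker]
    haveI hNn : ((Cfsg.pCore 2 X ⊔ Cfsg.oddCore X).subgroupOf G₁).Normal := hN ▸ inferInstance
    exact Or.inl ⟨G₁, hG₁, hNn, hodd, by rw [hbot]; exact hle, hQ,
      (Final.names_of_family hfam).elim (fun h => FamilyName.of_equiv (Or.inl h)
          ((QuotientGroup.quotientMulEquivOfEq hN).trans (QuotientGroup.quotientKerEquivOfSurjective f hf)))
        fun h => FamilyName.of_equiv (Or.inr h)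
          ((QuotientGroup.quotientMulEquivOfEq hN).trans (QuotientGroup.quotientKerEquivOfSurjective f hf))⟩
  · have hbot : (Cfsg.oddCore X).subgroupOf G₁ = ⊥ := by rw [hO, bot_subgroupOf]
    haveI hNn : ((Cfsg.oddCore X).subgroupOf G₁).Normal := hbot ▸ inferInstance
    exact Or.inr ⟨G₁, hn, hNn, hidx, by rw [hO]; exact bot_le, Z, hZn, hZ,
      ⟨((QuotientGroup.quotientMulEquivOfEq hbot).trans QuotientGroup.quotientBot).trans e⟩⟩

/-- The consequence of Theorem B used in the reduction. -/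
theorem fixed_of_theoremB (hTB : TheoremB.{u}) (hX : SmallMeet X) (hO : Cfsg.oddCore X = ⊥) {S T : Sylow 2 X}
    (hST : S ≠ T) (hnc : ¬ IsCyclic ↥((S : Subgroup X) ⊓ (T : Subgroup X))) {t : X} (ht : orderOf t = 2)
    (htc : t ∈ center X) (R : Sylow 2 X) {E : Subgroup X} (hE : Cfsg.IsElementaryAbelian 2 E)
    (h8 : 8 ≤ Nat.card E) (hER : E ≤ (R : Subgroup X)) (φ : MulAut (R : Subgroup X)) :
    φ ⟨t, mem_sylow_of_central ht htc R⟩ = ⟨t, mem_sylow_of_central ht htc R⟩ := by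
  classical
  have hx : ∃ x : X, orderOf x = 2 ∧ x ≠ t := by
    by_contra hno
    push Not at hno
    have h : Nat.card E ≤ Nat.card Bool := Nat.card_le_card_of_injective (fun x : E => decide (x = 1)) fun x y hxy => by
      by_cases hx : x = 1 <;> by_cases hy : y = 1 <;> simp [hx, hy] at hxy ⊢
      exact Subtype.ext ((hno _ (CfsgLib.Signalizer.elementary_orderOf hE x.2 fun h => hx (Subtype.ext h))).trans
        (hno _ (CfsgLib.Signalizer.elementary_orderOf hE y.2 fun h => hy (Subtype.ext h))).symm)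
    rw [Nat.card_eq_fintype_card (α := Bool), Fintype.card_bool] at h
    omega
  exact fixed_of_conc hX hO hST ht htc
    (conc_of_theoremB hTB hX hO (not_isSolvable hX hO hST ht htc hE h8 hER) hST hnc ht htc hx) R φ

end CfsgLib.RankOneInter
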