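import Cfsg.Agent.Lib.Invol.RankOneInter.PartA.Facts
import Cfsg.Agent.Lib.Core.Cores
import Cfsg.Agent.Lib.Core.PLengthTwoMaximal
import Cfsg.Agent.Lib.PLocal.PConstrained
import Cfsg.Agent.Lib.ZStar.QuatSylow
import Cfsg.Agent.Lib.Recog.GLTwoThree

/-!
Owner: helper16. Part A of S3310: a group with trivial odd core and a central involution `t`.

* `mem_sylow_of_central`, `central_unique`, `pCore_unique`.
* `not_isSolvable`: a Sylow 2-subgroup with an elementary group of order eight excludes solvable groups.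
* `fixed_of_concA`: in conclusion (a), every automorphism of a Sylow 2-subgroup fixes `t`.
-/

set_option autoImplicit false
set_option linter.style.haveILetI false
set_option linter.unusedSectionVars false

namespace CfsgLib.RankOneInter

open Subgroup

universe u

variable {X : Type u} [Group X] [Finite X]

theorem mem_sylow_of_central {t : X} (ht : orderOf t = 2) (htc : t ∈ center X) (S : Sylow 2 X) :
    t ∈ (S : Subgroup X) := by
  have hp : IsPGroup 2 (zpowers t) := IsPGroup.of_card (n := 1) (by rw [Nat.card_zpowers, ht, pow_one])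
  haveI : (zpowers t).Normal := by
    refine ⟨fun x hx g => ?_⟩
    have hxc : x ∈ center X := zpowers_le.2 htc hx
    rwa [mem_center_iff.1 hxc g, mul_inv_cancel_right]
  exact CfsgLib.Core.pCore_le_sylow S (CfsgLib.Core.le_pCore hp (mem_zpowers t))

/-- There is only one central involution. -/
theorem central_unique (hX : SmallMeet X) {S T : Sylow 2 X} (hST : S ≠ T) {s t : X} (hs : orderOf s = 2)
    (hsc : s ∈ center X) (ht : orderOf t = 2) (htc : t ∈ center X) : s = t := by
  by_contra hne
  exact hST (hX S T s t hs ht hne ((mem_center_iff.1 htc s)) (mem_sylow_of_central hs hsc S)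
    (mem_sylow_of_central ht htc S) (mem_sylow_of_central hs hsc T) (mem_sylow_of_central ht htc T))

/-- `O₂` has one involution. -/
theorem pCore_unique (hX : SmallMeet X) {S T : Sylow 2 X} (hST : S ≠ T) {t : X} (ht : orderOf t = 2)
    (htc : t ∈ center X) {x : X} (hx : x ∈ Cfsg.pCore 2 X) (hx2 : orderOf x = 2) : x = t := by
  by_contra hne
  exact hST (hX S T x t hx2 ht hne (mem_center_iff.1 htc x) (CfsgLib.Core.pCore_le_sylow S hx)
    (mem_sylow_of_central ht htc S) (CfsgLib.Core.pCore_le_sylow T hx) (mem_sylow_of_central ht htc T))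

/-- A group that is a 2-group has one Sylow 2-subgroup. -/
theorem sylow_eq_of_isPGroup (h : IsPGroup 2 X) (S T : Sylow 2 X) : S = T := by
  apply Sylow.ext
  rw [← S.is_maximal' (h.to_subgroup ⊤) le_top, ← T.is_maximal' (h.to_subgroup ⊤) le_top]

/-- A Sylow 2-subgroup with an elementary group of order eight excludes solvable groups. -/
theorem not_isSolvable (hX : SmallMeet X) (hO : Cfsg.oddCore X = ⊥) {S T : Sylow 2 X} (hST : S ≠ T) {t : X}
    (ht : orderOf t = 2) (htc : t ∈ center X) {R : Sylow 2 X} {E : Subgroup X}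
    (hE : Cfsg.IsElementaryAbelian 2 E) (h8 : 8 ≤ Nat.card E) (hER : E ≤ (R : Subgroup X)) :
    ¬ Group.IsSolvable X := by
  haveI := Fact.mk Nat.prime_two
  classical
  intro hsol
  set P := Cfsg.pCore 2 X with hP
  have hC : centralizer (P : Set X) ≤ P :=
    (CfsgLib.PLocal.isPConstrained_iff_of_core_bot hO).1
      (CfsgLib.PLocal.isPConstrained_of_isPSolvable (CfsgLib.Core.isPSolvable_of_isSolvable hsol))
  have huniq : ∀ x y : P, orderOf x = 2 → orderOf y = 2 → x = y := fun x y hx hy => Subtype.ext
    ((pCore_unique hX hST ht htc x.2 (by rw [Subgroup.orderOf_coe, hx])).trans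
      (pCore_unique hX hST ht htc y.2 (by rw [Subgroup.orderOf_coe, hy])).symm)
  let f : X →* MulAut P := MulAut.conjNormal
  have hker : ∀ x, f x = 1 → x ∈ centralizer (P : Set X) := fun x hx => mem_centralizer_iff.2 fun p hp => by
    have h := congrArg Subtype.val (DFunLike.congr_fun hx (⟨p, hp⟩ : P))
    simp only [f, MulAut.conjNormal_apply, MulAut.one_apply] at h
    calc p * x = x * p * x⁻¹ * x := by rw [h]
      _ = x * p := by group
  have hRne : R.toSubgroup ≠ ⊤ := fun h => hST (sylow_eq_of_isPGroup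
    (R.isPGroup'.of_equiv ((MulEquiv.subgroupCongr h).trans topEquiv)) S T)
  by_cases hq : Nonempty (P ≃* QuaternionGroup 2)
  · obtain ⟨e⟩ := hq
    have hk2 : Nat.card f.ker ≤ 2 := by
      have hZ : Nat.card {z : QuaternionGroup 2 // ∀ w, z * w = w * z} = 2 := by
        rw [Nat.card_eq_fintype_card]; decide
      rw [← hZ]
      refine Nat.card_le_card_of_injective (fun x => ⟨e ⟨x, hC (hker _ x.2)⟩, fun w => ?_⟩) ?_
      · rw [← e.apply_symm_apply w, ← map_mul, ← map_mul]
        congr 1
        exact Subtype.ext (mem_centralizer_iff.1 (hker _ x.2) _ (e.symm w).2).symm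
      · intro x y hxy
        exact Subtype.ext (congrArg Subtype.val (e.injective (congrArg Subtype.val hxy) :) :)
    haveI : Finite (MulAut P) := Finite.of_injective _ DFunLike.coe_injective
    have hcard : Nat.card X ≤ 48 := by
      rw [← f.ker.card_mul_index, index_ker]
      refine (Nat.mul_le_mul hk2 (le_trans (card_le_card_group f.range) ?_) : _ ≤ 2 * 24)
      refine le_trans (le_of_eq (Nat.card_congr (MulAut.congr e).toEquiv)) ?_
      exact CfsgLib.GLTwoThree.card_mulAut_le
    have hidx : 3 ≤ (R : Subgroup X).index := by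
      have h1 := R.not_dvd_index
      have h2 : (R : Subgroup X).index ≠ 1 := fun h => hRne (index_eq_one.1 h)
      have h3 : (R : Subgroup X).index ≠ 0 := index_ne_zero_of_finite
      omega
    have hP8 : Nat.card P = 8 := by
      rw [Nat.card_congr e.toEquiv, Nat.card_eq_fintype_card, QuaternionGroup.card]
    have hPR : P ≤ (R : Subgroup X) := CfsgLib.Core.pCore_le_sylow R
    have hE2 : Nat.card (P ⊓ E : Subgroup X) ≤ 2 := by
      have : Nat.card (P ⊓ E : Subgroup X) ≤ Nat.card Bool := by
        refine Nat.card_le_card_of_injective (fun x => decide ((x : X) = 1)) fun x y hxy => ?_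
        have hcase : ∀ z : (P ⊓ E : Subgroup X), (z : X) = 1 ∨ (z : X) = t := fun z => by
          by_cases hz : (z : X) = 1
          · exact Or.inl hz
          · exact Or.inr (pCore_unique hX hST ht htc z.2.1
              (CfsgLib.Signalizer.elementary_orderOf hE z.2.2 hz))
        have ht1 := CfsgLib.Signalizer.involution_ne_one ht
        rcases hcase x with hx | hx <;> rcases hcase y with hy | hy <;>
          first
          | exact Subtype.ext (hx.trans hy.symm)
          | (simp [hx, hy, ht1] at hxy)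
      simpa using this
    have h4 : 4 ≤ P.relIndex E := by
      have h := ((P ⊓ E).subgroupOf E).card_mul_index
      rw [Nat.card_congr (subgroupOfEquivOfLe inf_le_right).toEquiv,
        show ((P ⊓ E).subgroupOf E).index = P.relIndex E from inf_relIndex_right P E] at h
      by_contra hlt
      have : Nat.card (P ⊓ E : Subgroup X) * P.relIndex E ≤ 2 * 3 := Nat.mul_le_mul hE2 (by omega)
      omega
    have hR32 : 32 ≤ Nat.card (R : Subgroup X) := by
      rw [← (P.subgroupOf (R : Subgroup X)).card_mul_index, Nat.card_congr (subgroupOfEquivOfLe hPR).toEquiv, hP8]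
      have h5 : P.relIndex E ≤ P.relIndex R := relIndex_le_of_le_right hER (by
        unfold Subgroup.relIndex; exact index_ne_zero_of_finite)
      unfold Subgroup.relIndex at h4 h5
      omega
    have h6 := (R : Subgroup X).card_mul_index
    have : 32 * 3 ≤ Nat.card (R : Subgroup X) * (R : Subgroup X).index := Nat.mul_le_mul hR32 hidx
    omega
  · refine hRne (R.is_maximal' ?_ le_top).symm
    intro x
    obtain ⟨k, m, hm, hkm⟩ := Nat.exists_eq_two_pow_mul_odd (orderOf_pos (x : X)).ne'
    have hxm : (x : X) ^ (2 ^ k) ∈ P := hC (hker _ (ZStar.mulAut_eq_one_of_not_q8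
      (CfsgLib.Core.isPGroup_pCore 2 X) huniq hq hm (by
        rw [← map_pow, ← pow_mul, ← hkm, pow_orderOf_eq_one, map_one])))
    obtain ⟨j, hj⟩ := CfsgLib.Core.isPGroup_pCore 2 X ⟨_, hxm⟩
    refine ⟨k + j, Subtype.ext ?_⟩
    rw [coe_pow, coe_one, pow_add, pow_mul]
    exact congrArg Subtype.val hj

/-- In conclusion (a) every automorphism of a Sylow 2-subgroup fixes `t`. -/
theorem fixed_of_concA (hX : SmallMeet X) (hO : Cfsg.oddCore X = ⊥) {S T : Sylow 2 X} (hST : S ≠ T) {t : X}
    (ht : orderOf t = 2) (htc : t ∈ center X) (hA : ConcA X) (R : Sylow 2 X) (φ : MulAut (R : Subgroup X)) :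
    φ ⟨t, mem_sylow_of_central ht htc R⟩ = ⟨t, mem_sylow_of_central ht htc R⟩ := by
  haveI := Fact.mk Nat.prime_two
  obtain ⟨G₁, hG₁n, hNn, hodd, hle, ⟨n, ⟨eQ⟩⟩, hJ⟩ := hA
  obtain ⟨hsimple, hSyl⟩ := hJ.facts
  set P := Cfsg.pCore 2 X with hP
  have hPO : P ⊔ Cfsg.oddCore X = P := by rw [hO, sup_bot_eq]
  set N := (P ⊔ Cfsg.oddCore X).subgroupOf G₁ with hN
  have hPR : P ≤ (R : Subgroup X) := CfsgLib.Core.pCore_le_sylow R
  have hRG : (R : Subgroup X) ≤ G₁ := by
    obtain ⟨k, hk⟩ := IsPGroup.iff_card.1 (R.isPGroup'.to_quotient (G₁.subgroupOf (R : Subgroup X)))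
    rw [← index_eq_card] at hk
    have h1 : G₁.relIndex R ∣ G₁.index := relIndex_dvd_index_of_normal G₁ R
    rw [show G₁.relIndex R = 2 ^ k from hk] at h1
    rcases k with _ | k
    · rw [pow_zero] at hk
      exact relIndex_eq_one.1 hk
    · exact absurd ((dvd_pow_self 2 k.succ_ne_zero).trans h1) hodd.not_two_dvd_nat
  let mk : G₁ →* (↥G₁ ⧸ N) := QuotientGroup.mk' N
  let U : Sylow 2 (↥G₁ ⧸ N) := (R.subtype hRG).mapSurjective (QuotientGroup.mk'_surjective N)
  have hUmem : ∀ r : (R : Subgroup X), mk (inclusion hRG r) ∈ (U : Subgroup (↥G₁ ⧸ N)) := fun r =>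
    ⟨inclusion hRG r, r.2, rfl⟩
  let π : (R : Subgroup X) →* (U : Subgroup (↥G₁ ⧸ N)) := (mk.comp (inclusion hRG)).codRestrict _ hUmem
  have hπ : Function.Surjective π := by
    rintro ⟨_, g, hg, rfl⟩
    exact ⟨⟨g, hg⟩, rfl⟩
  have hπker : ∀ r, π r = 1 ↔ (r : X) ∈ P := fun r => by
    rw [← Subtype.coe_inj]
    show QuotientGroup.mk' N (inclusion hRG r) = 1 ↔ _
    rw [QuotientGroup.mk'_apply, QuotientGroup.eq_one_iff, hN, mem_subgroupOf, hPO]
    rfl
  set t₀ : (R : Subgroup X) := ⟨t, mem_sylow_of_central ht htc R⟩ with ht₀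
  by_contra hne
  set e := φ t₀ with he
  have he2 : orderOf (e : X) = 2 := by
    rw [Subgroup.orderOf_coe, he, MulEquiv.orderOf_eq, ← Subgroup.orderOf_coe]; exact ht
  have heP : ¬ (e : X) ∈ P := fun h => hne (Subtype.ext (pCore_unique hX hST ht htc h he2))
  -- `t` is a commutator inside `P`
  let ι : QuaternionGroup (2 ^ (n + 1)) →* (R : Subgroup X) := (inclusion hPR).comp eQ.symm.toMonoidHom
  have hιinj : Function.Injective ι := (inclusion_injective hPR).comp eQ.symm.injective
  set c : QuaternionGroup (2 ^ (n + 1)) := .a ((2 ^ (n + 1) : ℕ) : ZMod (2 * 2 ^ (n + 1))) with hc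
  have hc1 : c ≠ 1 := by
    rw [hc, QuaternionGroup.one_def, Ne, QuaternionGroup.a.injEq, ZMod.natCast_eq_zero_iff]
    exact fun h => absurd (Nat.le_of_dvd (by positivity) h) (by have : 0 < 2 ^ (n + 1) := by positivity
                                                                omega)
  have hcc : c * c = 1 := by
    rw [hc, QuaternionGroup.a_mul_a, ← Nat.cast_add, ← two_mul, ZMod.natCast_self, QuaternionGroup.one_def]
  have hιc : ι c = t₀ := by
    refine Subtype.ext (pCore_unique hX hST ht htc ((eQ.symm c).2) (orderOf_eq_prime ?_ ?_))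
    · rw [← coe_pow, ← map_pow, pow_two, hcc, map_one, coe_one]
    · intro h
      exact hc1 (hιinj ((Subtype.ext h : ι c = 1).trans (map_one ι).symm))
  have hcomm : ∃ x y : QuaternionGroup (2 ^ (n + 1)), x * y = c * (y * x) := by
    refine ⟨.a ((2 ^ n : ℕ) : ZMod (2 * 2 ^ (n + 1))), .xa 0, ?_⟩
    rw [hc, QuaternionGroup.a_mul_xa, QuaternionGroup.xa_mul_a, QuaternionGroup.a_mul_xa,
      QuaternionGroup.xa.injEq, zero_add, zero_sub, eq_sub_iff_add_eq, neg_add_eq_iff_eq_add,
      ← Nat.cast_add]
    congr 1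
    rw [← two_mul, pow_succ, mul_comm]
  obtain ⟨x, y, hxy⟩ := hcomm
  have htP : t ∈ P := by
    have h : ((ι c : (R : Subgroup X)) : X) = t := congrArg Subtype.val hιc
    rw [← h]
    exact (eQ.symm c).2
  have hπe : π e ≠ 1 := fun h => heP ((hπker _).1 h)
  have hnc : π (φ (ι x)) * π (φ (ι y)) ≠ π (φ (ι y)) * π (φ (ι x)) := by
    intro h
    apply hπe
    have h1 : π e * (π (φ (ι y)) * π (φ (ι x))) = π (φ (ι x)) * π (φ (ι y)) := by
      rw [he, ← hιc, ← map_mul, ← map_mul, ← map_mul, ← map_mul, ← map_mul, ← map_mul, ← hxy,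
        map_mul, map_mul, map_mul]
    rw [h] at h1
    exact mul_eq_right.1 h1
  obtain ⟨h32, Z, hZ, hZw⟩ := ((hSyl U).2).resolve_left fun h => hnc (h _ _)
  -- `P` has order eight
  have hn : n = 0 := by
    by_contra hn0
    obtain ⟨d, rfl⟩ : ∃ d, n = d + 1 := ⟨n - 1, by omega⟩
    set g := φ (ι (.a 1)) with hg
    have hg4 : (g : X) ^ 4 ∈ P := by
      rw [← coe_pow]
      exact (hπker _).1 (by rw [map_pow]; exact (hSyl U).1 _)
    apply heP
    have : e = (g ^ 4) ^ (2 ^ d) := by
      rw [he, ← hιc, hg, ← pow_mul, ← map_pow, ← map_pow, hc, QuaternionGroup.a_one_pow]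
      congr 4
      rw [pow_succ, pow_succ]; ring
    rw [this, coe_pow, coe_pow]
    exact pow_mem hg4 _
  subst hn
  have hP8 : Nat.card P = 8 := by
    rw [Nat.card_congr eQ.toEquiv, Nat.card_eq_fintype_card, QuaternionGroup.card]; norm_num
  -- the centraliser of `P`
  set C : Subgroup (R : Subgroup X) := (centralizer (P : Set X)).subgroupOf R with hC
  have hup : Nat.card C ≤ 8 * Nat.card Z := by
    have hle' : C.map φ.toMonoidHom ≤ Z.comap π := by
      rintro _ ⟨w, hw, rfl⟩
      have hw' : ∀ z : QuaternionGroup (2 ^ (0 + 1)), Commute w (ι z) := fun z =>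
        Subtype.ext (mem_centralizer_iff.1 hw _ (eQ.symm z).2).symm
      exact hZw _ _ _ hnc (((hw' x).map φ.toMonoidHom).map π) (((hw' y).map φ.toMonoidHom).map π)
    have h1 : Nat.card C ≤ Nat.card (Z.comap π) := by
      rw [← card_map_of_injective (f := φ.toMonoidHom) φ.injective (K := C)]
      exact card_le_of_le hle'
    refine h1.trans (le_of_eq ?_)
    have hkerP : π.ker = P.subgroupOf R := by
      ext r; rw [MonoidHom.mem_ker, hπker, mem_subgroupOf]
    have h2 : Nat.card π.ker = 8 := by
      rw [hkerP, Nat.card_congr (subgroupOfEquivOfLe hPR).toEquiv, hP8]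
    have h3 := (Z.comap π).card_mul_index
    rw [index_comap_of_surjective Z hπ, ← π.ker.card_mul_index, index_ker, h2,
      MonoidHom.range_eq_top.2 hπ, card_top, ← Z.card_mul_index, ← mul_assoc] at h3
    exact Nat.eq_of_mul_eq_mul_right (Nat.pos_of_ne_zero index_ne_zero_of_finite) h3
  -- its image in the simple quotient is everything
  set CG : Subgroup G₁ := (centralizer (P : Set X)).subgroupOf G₁ with hCG
  have hlow : 2 * Nat.card (U : Subgroup (↥G₁ ⧸ N)) ≤ Nat.card C := by
    haveI := hsimple
    haveI : (CG.map mk).Normal :=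
      (Subgroup.Normal.subgroupOf (inferInstance : (centralizer (P : Set X)).Normal) G₁).map mk
        (QuotientGroup.mk'_surjective N)
    rcases (inferInstance : (CG.map mk).Normal).eq_bot_or_eq_top with hbot | htop
    · exfalso
      have h1 : CG ≤ N := by
        intro g hg
        have : mk g ∈ CG.map mk := ⟨g, hg, rfl⟩
        rw [hbot, mem_bot] at this
        exact (QuotientGroup.eq_one_iff g).1 this
      have h2 : N.index ≤ CG.index := Nat.le_of_dvd (Nat.pos_of_ne_zero index_ne_zero_of_finite)
        (index_dvd_of_le h1)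
      haveI : Finite (MulAut P) := Finite.of_injective _ DFunLike.coe_injective
      let f : G₁ →* MulAut P := MulAut.conjNormal.comp G₁.subtype
      have h3 : CG.index ≤ 24 := by
        refine le_trans (Nat.le_of_dvd (Nat.pos_of_ne_zero index_ne_zero_of_finite)
          (index_dvd_of_le (H := f.ker) ?_)) ?_
        · intro g hg
          refine mem_centralizer_iff.2 fun p hp => ?_
          have h := congrArg Subtype.val (DFunLike.congr_fun (MonoidHom.mem_ker.1 hg) (⟨p, hp⟩ : P))
          simp only [f, MonoidHom.comp_apply, MulAut.conjNormal_apply, MulAut.one_apply,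
            Subgroup.coe_subtype] at h
          calc p * (g : X) = (g : X) * p * (g : X)⁻¹ * g := by rw [h]
            _ = g * p := by group
        · rw [index_ker]
          refine le_trans (card_le_card_group f.range) ?_
          exact le_trans (le_of_eq (Nat.card_congr (MulAut.congr eQ).toEquiv)) CfsgLib.GLTwoThree.card_mulAut_le
      have h4 : Nat.card (U : Subgroup (↥G₁ ⧸ N)) ≤ Nat.card (↥G₁ ⧸ N) := card_le_card_group _
      rw [← index_eq_card] at h4
      have h32' : 32 ≤ Nat.card (U : Subgroup (↥G₁ ⧸ N)) := h32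
      omega
    · let f : CG →* (↥G₁ ⧸ N) := mk.comp CG.subtype
      have hf : f.range = ⊤ := by
        rw [MonoidHom.range_comp, range_subtype, htop]
      have hk : 2 ∣ Nat.card f.ker := by
        have htG : t ∈ G₁ := hle (mem_sup_left htP)
        let tC : CG := ⟨⟨t, htG⟩, mem_centralizer_iff.2 fun p _ => mem_center_iff.1 htc p⟩
        have htk : tC ∈ f.ker := by
          refine (QuotientGroup.eq_one_iff _).2 ?_
          rw [hN, mem_subgroupOf]
          exact mem_sup_left htP
        rw [← ht, show orderOf t = orderOf (⟨tC, htk⟩ : f.ker) by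
          rw [← Subgroup.orderOf_coe, ← Subgroup.orderOf_coe, ← Subgroup.orderOf_coe]]
        exact orderOf_dvd_natCard _
      set d := (centralizer (P : Set X)).relIndex R with hd
      have hd1 : d ∣ CG.index := by
        have h := relIndex_dvd_index_of_normal CG ((R : Subgroup X).subgroupOf G₁)
        rwa [hCG, relIndex_subgroupOf hRG] at h
      have h2J : 2 * Nat.card (U : Subgroup (↥G₁ ⧸ N)) ∣ Nat.card CG := by
        rw [← f.ker.card_mul_index, index_ker, hf, card_top]
        exact mul_dvd_mul hk (card_subgroup_dvd_card _)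
      have hX' : 2 * Nat.card (U : Subgroup (↥G₁ ⧸ N)) * d ∣ Nat.card X := by
        refine (mul_dvd_mul h2J hd1).trans ?_
        rw [CG.card_mul_index]
        exact card_subgroup_dvd_card G₁
      obtain ⟨a, ha⟩ := IsPGroup.iff_card.1 U.isPGroup'
      obtain ⟨b, hb⟩ : ∃ b, d = 2 ^ b := by
        obtain ⟨k, hk⟩ := IsPGroup.iff_card.1 R.isPGroup'
        have h : d ∣ 2 ^ k := hk ▸ (hd ▸ Subgroup.index_dvd_card C)
        obtain ⟨b, -, hb⟩ := (Nat.dvd_prime_pow Nat.prime_two).1 h
        exact ⟨b, hb⟩
      have hR' : 2 * Nat.card (U : Subgroup (↥G₁ ⧸ N)) * d ∣ Nat.card (R : Subgroup X) := by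
        rw [← (R : Subgroup X).card_mul_index] at hX'
        refine Nat.Coprime.dvd_of_dvd_mul_right ?_ hX'
        rw [ha, hb, ← pow_succ', ← pow_add]
        exact ((Nat.prime_two.coprime_iff_not_dvd).2 R.not_dvd_index).pow_left _
      rw [← C.card_mul_index, show C.index = d from rfl] at hR'
      exact Nat.le_of_dvd Nat.card_pos
        (Nat.dvd_of_mul_dvd_mul_right (hb ▸ Nat.two_pow_pos b) hR')
  have hZ' : 4 * Nat.card Z < Nat.card (U : Subgroup (↥G₁ ⧸ N)) := hZ
  omega

end CfsgLib.RankOneInter
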